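import Cfsg.Agent.OddHalf.D8.Fi22.KTrans
import Cfsg.Agent.KFacts.FiTT.AllPairs
import Cfsg.Agent.R08.NoFpf
import Cfsg.Agent.OddHalf.NI.Ex.Balance
import Cfsg.Agent.U62.Sys
import Cfsg.Agent.U62.Semi2
import Cfsg.Agent.Co2Type.Setup
import Cfsg.Agent.ClassicalGeometry.PSUAutBasic
import Cfsg.Agent.OddHalf.D3.EvDiag
import Cfsg.Agent.OddHalf.NI.LemmaP
import Cfsg.Agent.S0215
import Cfsg.Agent.OddHalf.NI.Ex.Defs
import Cfsg.Agent.Cit.Comp

-- merged: Cfsg.Agent.OddHalf.NI3.Ex.FiRow.Base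
section

/-!
# (EX3), row `Fi22`: fixed transpositions of an involutory automorphism (helper286)

* `exists_fixed`: an automorphism with `α² = 1` fixes a transposition.
* `ncard_fixed_le`: a nontrivial automorphism fixes at most 2101 of the 3510 transpositions.
* `pair_moves`: the product of two commuting transpositions, fixed by `α`, does not centralise a component of `fix α`.
-/

set_option autoImplicit false
set_option linter.style.haveILetI false

namespace Cfsg.Agent.OddHalf.NI3.Ex.FiRow.Base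

open Subgroup Cfsg Cfsg.Agent.OddHalf.NI Cfsg.Agent.OddHalf.NI.Ex Cfsg.Agent.R01
open Cfsg.Agent.R01.Component (Nb mem_Nb labels_of_loc ncard_Nb)

/-- the class of transpositions -/
abbrev T : Set Spor.Fi22 := Fi22Facts.T

theorem kt : D8.Fi22.KTrans Spor.Fi22 T := D8.Fi22.kTrans0

instance fin : Finite Spor.Fi22 := Fi22Facts.finite

theorem aa {α : MulAut Spor.Fi22} (hα : α * α = 1) (x : Spor.Fi22) : α (α x) = x := by
  rw [← MulAut.mul_apply, hα, MulAut.one_apply]

theorem mem_fixT {α : MulAut Spor.Fi22} {t : Spor.Fi22} (ht : t ∈ T) : α t ∈ T := kt.aut α t ht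

/-- **An involutory automorphism fixes a transposition.** -/
theorem exists_fixed {α : MulAut Spor.Fi22} (hα : α * α = 1) : ∃ t ∈ T, α t = t := by
  by_contra hcon
  push Not at hcon
  refine Cfsg.Agent.R08.NoFpf.fi22_no_fpf α (fun t ht => mem_fixT ht) (aa hα) hcon ?_
  intro t ht
  rcases kt.three t ht (α t) (mem_fixT ht) with h | h
  · exact h.symm
  · exfalso
    have h1 : t * α t * t ∈ T := by
      have h2 := kt.conj t (α t) (mem_fixT ht)
      rwa [inv_eq_of_mul_eq_one_left (kt.sq t ht)] at h2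
    apply hcon _ h1
    rw [map_mul, map_mul, aa hα, ← h]

/-- the fixed transpositions -/
def TA (α : MulAut Spor.Fi22) : Set Spor.Fi22 := {t | t ∈ T ∧ α t = t}

/-- **The number of fixed transpositions.** -/
theorem ncard_fixed_le {α : MulAut Spor.Fi22} (hα : α ≠ 1) : (TA α).ncard ≤ 2101 := by
  classical
  obtain ⟨u, hu, hau⟩ : ∃ u ∈ T, α u ≠ u := by
    by_contra hcon
    push Not at hcon
    apply hα
    have h1 : (⊤ : Subgroup Spor.Fi22) ≤ fix α := by
      rw [← kt.gen, closure_le]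
      exact fun x hx => hcon x hx
    ext x
    exact h1 (mem_top x)
  have hT : T.ncard = 3510 := Fi22Facts.ncard_T
  have hN : (Nb T u).ncard = 693 := ncard_Nb Fischer.Unit22.hF (labels_of_loc Fi22Facts.loc) hu
  have huu := kt.sq u hu
  -- the fixed ones not commuting with `u`
  set B : Set Spor.Fi22 := {t | t ∈ TA α ∧ ¬ Commute t u} with hB
  have h1 : TA α ⊆ Nb T u ∪ B := by
    intro t ht
    by_cases hc : Commute t u
    · left
      exact ⟨ht.1, fun e => hau (e ▸ ht.2), hc⟩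
    · exact Or.inr ⟨ht, hc⟩
  have h2 : B.ncard ≤ (T \ TA α).ncard := by
    refine Set.ncard_le_ncard_of_injOn (fun v => v * u * v) ?_ ?_ (Set.toFinite _)
    · rintro v ⟨⟨hv, hav⟩, hc⟩
      refine ⟨?_, fun h => ?_⟩
      · have h3 := kt.conj v u hu
        rwa [inv_eq_of_mul_eq_one_left (kt.sq v hv)] at h3
      · apply hau
        have h4 : α (v * u * v) = v * u * v := h.2
        rw [map_mul, map_mul, hav] at h4
        exact mul_left_cancel (mul_right_cancel h4)
    · rintro v ⟨⟨hv, hav⟩, hc⟩ w ⟨⟨hw, haw⟩, hc'⟩ h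
      have h3 : v * u * v = u * v * u := (kt.three v hv u hu).resolve_left hc
      have h4 : w * u * w = u * w * u := (kt.three w hw u hu).resolve_left hc'
      have h5 : u * v * u = u * w * u := by rw [← h3, ← h4]; exact h
      exact mul_left_cancel (mul_right_cancel h5)
  have h3 : (T \ TA α).ncard = T.ncard - (TA α).ncard :=
    Set.ncard_sdiff (fun t ht => ht.1) (Set.toFinite _)
  have h4 : (TA α).ncard ≤ (Nb T u ∪ B).ncard := Set.ncard_le_ncard h1 (Set.toFinite _)
  have h5 := Set.ncard_union_le (Nb T u) B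
  have h6 : (TA α).ncard ≤ T.ncard := Set.ncard_le_ncard (fun t ht => ht.1) (Set.toFinite _)
  omega

/-- **Products of two commuting transpositions do not centralise the components.** -/
theorem pair_moves {α : MulAut Spor.Fi22} (hα : α * α = 1) {a b : Spor.Fi22} (ha : a ∈ T) (hb : b ∈ T)
    (hne : a ≠ b) (hc : a * b = b * a) (hz : α (a * b) = a * b) {J : Subgroup Spor.Fi22}
    (hJ : CompIn (fix α) J) : (∀ j ∈ J, a * b * j * (a * b)⁻¹ ∈ J) ∧ ∃ j ∈ J, a * b * j ≠ j * (a * b) := by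
  obtain ⟨R, F⟩ := KFacts.FiTT.facts_of_iso (MulEquiv.refl Spor.Fi22) (a := a) (b := b)
    ⟨a, ha, rfl⟩ ⟨b, hb, rfl⟩ hne hc
  have haa := kt.sq a ha
  have hbb := kt.sq b hb
  refine Balance.balance hα hz ?_ (Q := R) F.R_two ?_ ?_ ?_ hJ
  · calc a * b * (a * b) = a * (b * a) * b := by group
      _ = a * (a * b) * b := by rw [hc]
      _ = (a * a) * (b * b) := by group
      _ = 1 := by rw [haa, hbb, one_mul]
  · intro q hq
    have h1 := mem_centralizer_iff.1 (F.R_le hq)
    have h2 := h1 a (Or.inl rfl)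
    have h3 := h1 b (Or.inr rfl)
    calc q * (a * b) = (q * a) * b := by group
      _ = a * q * b := by rw [h2]
      _ = a * (q * b) := by group
      _ = a * b * q := by rw [← h3]; group
  · intro g hg q hq
    exact F.R_normal g hg q hq
  · intro g hg h
    have h1 := F.R_center g h
    rcases h1 with rfl | rfl | rfl | rfl
    · exact R.one_mem
    · exact F.d_mem
    · exact F.d'_mem
    · exact R.mul_mem F.d_mem F.d'_mem

end Cfsg.Agent.OddHalf.NI3.Ex.FiRow.Base

end

-- merged: Cfsg.Agent.OddHalf.NI3.Ex.FiRow.Twin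
section

/-!
# (EX3), row `Fi22`: twins (helper286)

`A α t`: the transpositions fixed by `α`, commuting with `t`, different from `t`.
`Tw α t s`: `s ∈ A α t` commutes with all of `A α t` and is the only one.
If every fixed transposition has a twin, then the products `t t'` generate a normal 2-subgroup of `fix α`.
-/

set_option autoImplicit false
set_option linter.style.haveILetI false

namespace Cfsg.Agent.OddHalf.NI3.Ex.FiRow.Twin

open Subgroup Cfsg Cfsg.Agent.OddHalf.NI Cfsg.Agent.OddHalf.NI.Ex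
open Cfsg.Agent.OddHalf.NI3.Ex.FiRow.Base

/-- the other fixed transpositions commuting with `t` -/
def A (α : MulAut Spor.Fi22) (t : Spor.Fi22) : Set Spor.Fi22 := {s | s ∈ TA α ∧ s ≠ t ∧ s * t = t * s}

/-- `s` is the twin of `t` -/
structure Tw (α : MulAut Spor.Fi22) (t s : Spor.Fi22) : Prop where
  mem : s ∈ A α t
  comm : ∀ r ∈ A α t, r * s = s * r
  uniq : ∀ r ∈ A α t, (∀ q ∈ A α t, q * r = r * q) → r = s

section

variable {α : MulAut Spor.Fi22}

theorem TA_conj {g t : Spor.Fi22} (hg : α g = g) (ht : t ∈ TA α) : g * t * g⁻¹ ∈ TA α := by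
  refine ⟨kt.conj g t ht.1, ?_⟩
  rw [map_mul, map_mul, map_inv, hg, ht.2]

theorem A_conj {g t s : Spor.Fi22} (hg : α g = g) (hs : s ∈ A α t) : g * s * g⁻¹ ∈ A α (g * t * g⁻¹) := by
  refine ⟨TA_conj hg hs.1, fun h => hs.2.1 ?_, ?_⟩
  · exact mul_left_cancel (mul_right_cancel h)
  · calc g * s * g⁻¹ * (g * t * g⁻¹) = g * (s * t) * g⁻¹ := by group
      _ = g * (t * s) * g⁻¹ := by rw [hs.2.2]
      _ = g * t * g⁻¹ * (g * s * g⁻¹) := by group

theorem inv_fix {g : Spor.Fi22} (hg : α g = g) : α g⁻¹ = g⁻¹ := by rw [map_inv, hg]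

theorem A_conj' {g t s : Spor.Fi22} (hg : α g = g) (hs : s ∈ A α (g * t * g⁻¹)) : g⁻¹ * s * g ∈ A α t := by
  have h := A_conj (inv_fix hg) hs
  have e1 : g⁻¹ * (g * t * g⁻¹) * g⁻¹⁻¹ = t := by group
  have e2 : g⁻¹ * s * g⁻¹⁻¹ = g⁻¹ * s * g := by group
  rwa [e1, e2] at h

theorem comm_conj {g r s : Spor.Fi22} (h : r * s = s * r) :
    (g * r * g⁻¹) * (g * s * g⁻¹) = (g * s * g⁻¹) * (g * r * g⁻¹) := by
  calc (g * r * g⁻¹) * (g * s * g⁻¹) = g * (r * s) * g⁻¹ := by group
    _ = g * (s * r) * g⁻¹ := by rw [h]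
    _ = (g * s * g⁻¹) * (g * r * g⁻¹) := by group

theorem Tw.conj {t s g : Spor.Fi22} (hg : α g = g) (h : Tw α t s) : Tw α (g * t * g⁻¹) (g * s * g⁻¹) := by
  refine ⟨A_conj hg h.mem, fun r hr => ?_, fun r hr hq => ?_⟩
  · have h1 := comm_conj (g := g) (h.comm _ (A_conj' hg hr))
    have e : g * (g⁻¹ * r * g) * g⁻¹ = r := by group
    rwa [e] at h1
  · have h1 := h.uniq (g⁻¹ * r * g) (A_conj' hg hr) fun q hq' => by
      have h2 := comm_conj (g := g⁻¹) (hq _ (A_conj hg hq'))
      have e1 : g⁻¹ * (g * q * g⁻¹) * g⁻¹⁻¹ = q := by group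
      have e2 : g⁻¹ * r * g⁻¹⁻¹ = g⁻¹ * r * g := by group
      rwa [e1, e2] at h2
    rw [← h1]
    group

theorem Tw.eq {t s s' : Spor.Fi22} (h : Tw α t s) (h' : Tw α t s') : s = s' :=
  h'.uniq s h.mem h.comm

/-- Every fixed transposition has a twin. -/
def All (α : MulAut Spor.Fi22) : Prop := ∀ t ∈ TA α, ∃ s, Tw α t s

theorem symm (hA : All α) {t s : Spor.Fi22} (ht : t ∈ TA α) (h : Tw α t s) : Tw α s t := by
  obtain ⟨r, hr⟩ := hA s h.mem.1
  have hts : t ∈ A α s := ⟨ht, h.mem.2.1.symm, h.mem.2.2.symm⟩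
  have hsub : ∀ q ∈ A α t, q ≠ s → q ∈ A α s := fun q hq hne => ⟨hq.1, hne, h.comm q hq⟩
  have hrt : t * r = r * t := hr.comm t hts
  by_cases e : r = t
  · rwa [e] at hr
  exfalso
  have h1 : r ∈ A α t := ⟨hr.mem.1, e, hrt.symm⟩
  have h2 : r = s := by
    refine h.uniq r h1 fun q hq => ?_
    by_cases hqs : q = s
    · rw [hqs]; exact hr.mem.2.2.symm
    · exact hr.comm q (hsub q hq hqs)
  exact hr.mem.2.1 h2

/-- commuting with `t` is the same as commuting with its twin -/
theorem comm_iff (hA : All α) {t s u : Spor.Fi22} (ht : t ∈ TA α) (h : Tw α t s) (hu : u ∈ TA α) :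
    u * t = t * u ↔ u * s = s * u := by
  have h' := symm hA ht h
  constructor
  · intro hc
    by_cases e : u = t
    · rw [e]; exact h.mem.2.2.symm
    · exact h.comm u ⟨hu, e, hc⟩
  · intro hc
    by_cases e : u = s
    · rw [e]; exact h.mem.2.2
    · exact h'.comm u ⟨hu, e, hc⟩

theorem sq {t : Spor.Fi22} (ht : t ∈ TA α) : t * t = 1 := kt.sq t ht.1

theorem inv {t : Spor.Fi22} (ht : t ∈ TA α) : t⁻¹ = t := inv_eq_of_mul_eq_one_left (sq ht)

theorem braid {t u : Spor.Fi22} (ht : t ∈ TA α) (hu : u ∈ TA α) (h : ¬ t * u = u * t) :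
    t * u * t = u * t * u := (kt.three t ht.1 u hu.1).resolve_left h

/-- **The products with the twin commute.** -/
theorem prod_comm (hA : All α) {t t' u u' : Spor.Fi22} (ht : t ∈ TA α) (hu : u ∈ TA α) (h : Tw α t t')
    (k : Tw α u u') : (t * t') * (u * u') = (u * u') * (t * t') := by
  have hT := h.mem.1
  have hU := k.mem.1
  have htt := h.mem.2.2
  have huu := k.mem.2.2
  by_cases c1 : u * t = t * u
  · have c2 : u * t' = t' * u := (comm_iff hA ht h hu).1 c1
    have c3 : t * u' = u' * t := (comm_iff hA hu k ht).1 c1.symm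
    have c4 : t' * u' = u' * t' := (comm_iff hA hu k hT).1 c2.symm
    have e1 : Commute t u := c1.symm
    have e2 : Commute t' u := c2.symm
    have e3 : Commute t u' := c3
    have e4 : Commute t' u' := c4
    exact ((e1.mul_left e2).mul_right (e3.mul_left e4)).eq
  · have c1' : ¬ t * u = u * t := fun e => c1 e.symm
    have c2 : ¬ t' * u = u * t' := fun e => c1 ((comm_iff hA ht h hu).2 e.symm)
    have b1 := braid ht hu c1'
    have b2 := braid hT hu c2
    -- the twin of `t u t = u t u`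
    have k1 := k.conj (g := t) ht.2
    have k2 := h.conj (g := u) hu.2
    rw [inv ht] at k1
    rw [inv hu, ← b1] at k2
    have e1 : t * u' * t = u * t' * u := k1.eq k2
    have e2 : u' = t * t' * u * (t * t') := by
      calc u' = t * t * u' * (t * t) := by rw [sq ht]; group
        _ = t * (t * u' * t) * t := by group
        _ = t * (u * t' * u) * t := by rw [e1]
        _ = t * (t' * u * t') * t := by rw [b2]
        _ = t * t' * u * (t' * t) := by group
        _ = t * t' * u * (t * t') := by rw [htt]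
    have zz : t * t' * (t * t') = 1 := by
      calc t * t' * (t * t') = t * (t' * t) * t' := by group
        _ = (t * t) * (t' * t') := by rw [htt]; group
        _ = 1 := by rw [sq ht, sq hT, one_mul]
    have e3 : t * t' * u' * (t * t') = u := by
      rw [e2]
      calc t * t' * (t * t' * u * (t * t')) * (t * t') = (t * t' * (t * t')) * u * (t * t' * (t * t')) := by group
        _ = u := by rw [zz]; group
    calc t * t' * (u * u') = t * t' * (u * u') * (t * t' * (t * t')) := by rw [zz, mul_one]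
      _ = (t * t' * u * (t * t')) * ((t * t' * (t * t')) * (t * t' * (t * t'))) *
          (t * t' * u' * (t * t')) * (t * t') := by
          have e4 : t * t' * (u * u') * (t * t' * (t * t')) =
            t * t' * u * ((t * t' * (t * t'))) * u' * (t * t' * (t * t')) := by rw [zz]; group
          rw [e4, zz]
          calc t * t' * u * 1 * u' * 1 = t * t' * u * (t * t' * (t * t')) * u' * 1 := by rw [zz]
            _ = t * t' * u * (t * t') * (1 * 1) * (t * t' * u' * (t * t')) * (t * t') := by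
              have e5 : t * t' * u' * (t * t') * (t * t') = t * t' * u' := by
                calc t * t' * u' * (t * t') * (t * t') = t * t' * u' * (t * t' * (t * t')) := by group
                  _ = t * t' * u' := by rw [zz, mul_one]
              calc t * t' * u * (t * t' * (t * t')) * u' * 1
                  = t * t' * u * (t * t') * (t * t' * u') := by group
                _ = t * t' * u * (t * t') * (t * t' * u' * (t * t') * (t * t')) := by rw [e5]
                _ = _ := by group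
      _ = u' * u * (t * t') := by rw [← e2, e3, zz]; group
      _ = u * u' * (t * t') := by rw [huu]

end

/-- **If every fixed transposition has a twin, there are no components.** -/
theorem false_of_all {α : MulAut Spor.Fi22} (hα : α * α = 1) (hA : All α) {J : Subgroup Spor.Fi22}
    (hJ : CompIn (fix α) J) : False := by
  obtain ⟨t, ht, hat⟩ := exists_fixed hα
  have htA : t ∈ TA α := ⟨ht, hat⟩
  obtain ⟨s, hs⟩ := hA t htA
  set P : Set Spor.Fi22 := {x | ∃ t ∈ TA α, ∃ s, Tw α t s ∧ x = t * s} with hP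
  have hPc : ∀ x ∈ P, ∀ y ∈ P, x * y = y * x := by
    rintro x ⟨t, ht, s, hs, rfl⟩ y ⟨u, hu, v, hv, rfl⟩
    exact prod_comm hA ht hu hs hv
  have hPs : ∀ x ∈ P, x * x = 1 := by
    rintro x ⟨t, ht, s, hs, rfl⟩
    calc t * s * (t * s) = t * (s * t) * s := by group
      _ = (t * t) * (s * s) := by rw [hs.mem.2.2]; group
      _ = 1 := by rw [sq ht, sq hs.mem.1, one_mul]
  have hPa : ∀ x ∈ P, x ∈ fix α := by
    rintro x ⟨t, ht, s, hs, rfl⟩
    exact (fix α).mul_mem ht.2 hs.mem.1.2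
  have hPn : ∀ g ∈ fix α, ∀ x ∈ P, g * x * g⁻¹ ∈ P := by
    rintro g hg x ⟨t, ht, s, hs, rfl⟩
    refine ⟨_, TA_conj hg ht, _, hs.conj hg, ?_⟩
    group
  have hV2 := D8.Fi22.SylAut.isPGroup_closure hPs hPc
  have hVa : closure P ≤ fix α := by
    rw [closure_le]
    exact fun x hx => hPa x hx
  have hVn : ∀ g ∈ fix α, ∀ x ∈ closure P, g * x * g⁻¹ ∈ closure P := by
    intro g hg
    have h1 : closure P ≤ (closure P).comap (MulAut.conj g).toMonoidHom := by
      rw [closure_le]
      exact fun x hx => subset_closure (hPn g hg x hx)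
    exact fun x hx => h1 hx
  set F := fix α with hF
  have h3 := Cfsg.Agent.Lib.ComponentSolvable.commutator_component_solvable_eq_bot hJ.comp
    (R := (closure P).subgroupOf F)
    (by
      haveI : Fact (Nat.Prime 2) := ⟨Nat.prime_two⟩
      haveI : Group.IsNilpotent ↥((closure P).subgroupOf F) :=
        (hV2.comap_of_injective _ F.subtype_injective).isNilpotent
      infer_instance)
    (by
      intro x _
      rw [mem_normalizer_iff]
      have h5 : ∀ x : F, ∀ y ∈ (closure P).subgroupOf F, x * y * x⁻¹ ∈ (closure P).subgroupOf F :=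
        fun x y hy => hVn x x.2 y hy
      intro y
      refine ⟨h5 x y, fun h6 => ?_⟩
      have h7 := h5 x⁻¹ _ h6
      rwa [inv_inv, show x⁻¹ * (x * y * x⁻¹) * x = y by group] at h7)
  rw [commutator_eq_bot_iff_le_centralizer] at h3
  have hts : t * s ∈ P := ⟨t, htA, s, hs, rfl⟩
  obtain ⟨-, j, hj, hne⟩ := pair_moves hα ht hs.mem.1.1 hs.mem.2.1.symm hs.mem.2.2.symm
    (by rw [map_mul, hat, hs.mem.1.2]) hJ
  apply hne
  have h4 := mem_centralizer_iff.1 (h3 (show (⟨j, hJ.le hj⟩ : F) ∈ J.subgroupOf F from hj))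
    ⟨t * s, hPa _ hts⟩ (subset_closure hts)
  exact congrArg Subtype.val h4

end Cfsg.Agent.OddHalf.NI3.Ex.FiRow.Twin

end

-- merged: Cfsg.Agent.OddHalf.NI3.Ex.FiRow.Semi
section

/-!
# (EX3), row `Fi22`: an involutory automorphism at a fixed transposition (helper286)

`Dat α t`: `α² = 1`, `α t = t`; labels `lift v` of the transpositions commuting with `t`, `α (lift v) = lift (φ v)`.
-/

set_option autoImplicit false
set_option linter.style.haveILetI false
set_option linter.unusedSectionVars false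

namespace Cfsg.Agent.OddHalf.NI3.Ex.FiRow.Semi

open Subgroup Cfsg Cfsg.Agent.OddHalf.NI Cfsg.Agent.OddHalf.NI.Ex
open Cfsg.Agent.OddHalf.NI3.Ex.FiRow.Base Cfsg.Agent.OddHalf.NI3.Ex.FiRow.Twin
open Cfsg.Agent.LieClassical.HermBasic Cfsg.Agent.ClassicalGeometry.UnitTransv
open Cfsg.Agent.SporadicStructure.UnitTwo
open Cfsg.Agent.R01.Lifts Cfsg.Agent.R01.PSUSix Cfsg.Agent.R01.Label Cfsg.Agent.R01.InvForm
open Cfsg.Agent.R01.Start (zel)
open Cfsg.Agent.R01.Loc
open Cfsg.Agent.R01
open Cfsg.Agent.R01.Frames (Hyp)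
open Cfsg.Agent.R01.ComLabel (Iso)
open Cfsg.Agent.ClassicalGeometry.UnitAutBasic (tau pr pr_surjective)
open Cfsg.Agent.U62.Semi Cfsg.Agent.U62.Semi2
open scoped Matrix

variable {F : Type*} [Field F] [Fintype F] {hF : Fintype.card F = 2 ^ 2}

/-- The local data at a fixed transposition. -/
structure Dat (hF : Fintype.card F = 2 ^ 2) (α : MulAut Spor.Fi22) (t : Spor.Fi22)
    (π : centralizer ({t} : Set Spor.Fi22) →* PSU 6 F 2)
    (lift : (Fin 6 → F) → centralizer ({t} : Set Spor.Fi22)) (e : ℕ) (φ : (Fin 6 → F) → (Fin 6 → F)) :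
    Prop where
  tT : t ∈ Base.T
  fixt : α t = t
  aa : α * α = 1
  lab : Lab hF π (zel t) (zel t) lift
  mem : ∀ x : centralizer ({t} : Set Spor.Fi22), (x : Spor.Fi22) ∈ Base.T ↔ x = zel t ∨ x ∈ Dset lift
  sem : Sem e φ
  act : ∀ v, Iso F v → α (lift v : Spor.Fi22) = lift (φ v)
  inv : ∀ v, φ (φ v) = v

theorem conj_inj : Function.Injective (MulAut.conj : Spor.Fi22 →* MulAut Spor.Fi22) := by
  have hs := Fi22Facts.isSimple
  rw [injective_iff_map_eq_one]
  intro x hx
  have h1 : x ∈ center Spor.Fi22 := by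
    rw [mem_center_iff]
    intro y
    have h2 := DFunLike.congr_fun hx y
    have h3 : x * y * x⁻¹ = y := h2
    rw [mul_inv_eq_iff_eq_mul] at h3
    exact h3.symm
  rcases hs.eq_bot_or_eq_top_of_normal (center Spor.Fi22) inferInstance with h | h
  · rw [h] at h1
    exact mem_bot.1 h1
  · exfalso
    obtain ⟨a, ha, b, hb, hab, -⟩ := kt.pair
    have hc : ∀ x y : Spor.Fi22, x * y = y * x := by
      intro x y
      have : y ∈ center Spor.Fi22 := by rw [h]; exact mem_top y
      exact mem_center_iff.1 this x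
    obtain ⟨g, hg⟩ := kt.trans a ha b hb
    apply hab
    rw [← hg, hc g a, mul_inv_cancel_right]

/-- **Existence of the local data.** -/
theorem exists_dat {α : MulAut Spor.Fi22} (hα : α * α = 1) {t : Spor.Fi22} (ht : t ∈ TA α) :
    ∃ π lift e φ, (e = 1 ∨ e = 2) ∧ Dat Fischer.Unit22.hF α t π lift e φ := by
  obtain ⟨π, lift, L, hL⟩ := Fi22Facts.loc t ht.1
  let E : centralizer ({t} : Set Spor.Fi22) ≃* (centralizer ({t} : Set Spor.Fi22)).map (MulAut.conj : Spor.Fi22 →* MulAut Spor.Fi22) :=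
    (centralizer ({t} : Set Spor.Fi22)).equivMapOfInjective _ conj_inj
  have hE : ∀ x : centralizer ({t} : Set Spor.Fi22), ((E x : (centralizer ({t} : Set Spor.Fi22)).map
      (MulAut.conj : Spor.Fi22 →* MulAut Spor.Fi22)) : MulAut Spor.Fi22) =
      MulAut.conj (x : Spor.Fi22) := fun x => coe_equivMapOfInjective_apply _ _ _ _
  have htL : MulAut.conj t ∈ (centralizer ({t} : Set Spor.Fi22)).map (MulAut.conj : Spor.Fi22 →* MulAut Spor.Fi22) :=
    ⟨t, mem_centralizer_singleton_iff.2 rfl, rfl⟩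
  have L' := lab_transport L E
  have e1 : E (zel t) = ⟨MulAut.conj t, htL⟩ := Subtype.ext (hE _)
  rw [e1] at L'
  have hcj : ∀ x : Spor.Fi22, α * MulAut.conj x * α⁻¹ = MulAut.conj (α x) := by
    intro x
    ext y
    show α (x * (α⁻¹ y) * x⁻¹) = α x * y * (α x)⁻¹
    rw [map_mul, map_mul, map_inv, MulAut.apply_inv_self]
  have hαi : α⁻¹ = α := inv_eq_of_mul_eq_one_left hα
  have hst : ∀ x ∈ centralizer ({t} : Set Spor.Fi22), α x ∈ centralizer ({t} : Set Spor.Fi22) := by
    intro x hx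
    rw [mem_centralizer_singleton_iff] at hx ⊢
    have h1 := congrArg α hx
    rwa [map_mul, map_mul, ht.2] at h1
  have hn : ∀ l ∈ (centralizer ({t} : Set Spor.Fi22)).map (MulAut.conj : Spor.Fi22 →* MulAut Spor.Fi22),
      α * l * α⁻¹ ∈ (centralizer ({t} : Set Spor.Fi22)).map (MulAut.conj : Spor.Fi22 →* MulAut Spor.Fi22) := by
    rintro _ ⟨x, hx, rfl⟩
    exact ⟨α x, hst x hx, (hcj x).symm⟩
  have hn' : ∀ l ∈ (centralizer ({t} : Set Spor.Fi22)).map (MulAut.conj : Spor.Fi22 →* MulAut Spor.Fi22),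
      α⁻¹ * l * α ∈ (centralizer ({t} : Set Spor.Fi22)).map (MulAut.conj : Spor.Fi22 →* MulAut Spor.Fi22) := by
    intro l hl
    have := hn l hl
    rwa [hαi] at this ⊢
  have hnt : Commute α (MulAut.conj t) := by
    have h1 := hcj t
    rw [ht.2] at h1
    exact mul_inv_eq_iff_eq_mul.1 h1
  obtain ⟨e, φ, he, hφ, ha⟩ := Cfsg.Agent.U62.Sys.semi_of_lab htL Fischer.Unit22.hF L' hn hn' hnt
  have act : ∀ v, Iso SporRec.GF4.F4 v → α (lift v : Spor.Fi22) = lift (φ v) := by
    intro v hv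
    have h1 := ha v hv
    rw [hE, hE, hcj] at h1
    exact conj_inj h1
  have hiso : ∀ v, Iso SporRec.GF4.F4 v → Iso SporRec.GF4.F4 (φ v) := fun v hv => hφ.iso Fischer.Unit22.hF he hv
  have hpt : ∀ v, Iso SporRec.GF4.F4 v → Pt v (φ (φ v)) := by
    intro v hv
    have h1 := act _ (hiso v hv)
    rw [← act v hv, Base.aa hα] at h1
    have h2 : lift v = lift (φ (φ v)) := Subtype.ext h1
    exact (L.lift_eq_iff hv.2 (hiso _ (hiso v hv)).2 hv.1 (hiso _ (hiso v hv)).1).1 h2
  have hsm : ∀ (a : SporRec.GF4.F4), a ≠ 0 → ∀ v, Iso SporRec.GF4.F4 v → α (lift v : Spor.Fi22) = lift (a • φ v) := by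
    intro a ha0 v hv
    rw [act v hv, L.smul _ a (hiso v hv).2 ha0]
  rcases he with rfl | rfl
  · obtain ⟨-, a, ha0, hs⟩ := scal_all Fischer.Unit22.hF (Or.inl rfl) (hφ.comp hφ) hpt
    refine ⟨π, lift, 1, fun v => a • φ v, Or.inl rfl, ht.1, ht.2, hα, L, hL,
      hφ.smul' Fischer.Unit22.hF ha0, fun v hv => hsm a ha0 v hv, fun v => ?_⟩
    rw [hφ.smul, pow_one, hs, smul_smul, smul_smul]
    have : a * a * a = 1 := by linear_combination Cfsg.Agent.U62.Semi.norm_one Fischer.Unit22.hF ha0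
    rw [this, one_smul]
  · obtain ⟨-, a, ha0, hs⟩ := scal_all Fischer.Unit22.hF (Or.inl rfl)
      ((hφ.comp hφ).four Fischer.Unit22.hF) hpt
    refine ⟨π, lift, 2, φ, Or.inr rfl, ht.1, ht.2, hα, L, hL, hφ, act, fun v => ?_⟩
    by_cases hv : v = 0
    · rw [hv, hφ.map_zero, hφ.map_zero]
    have h1 : φ (φ (φ v)) = a • φ v := hs (φ v)
    rw [hs v, hφ.smul] at h1
    obtain ⟨w, hw⟩ := exists_herm_ne_zero Fischer.Unit22.hF hv
    have h2 : φ v ≠ 0 := by
      intro h0
      have := hφ.herm v w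
      rw [h0, herm_zero_left] at this
      exact hw ((pow_eq_zero_iff two_ne_zero).1 this.symm)
    have h3 : (a ^ 2 - a) • φ v = 0 := by rw [sub_smul, h1, sub_self]
    have h4 := sub_eq_zero.1 ((smul_eq_zero.1 h3).resolve_right h2)
    have h5 : a = 1 := mul_left_cancel₀ ha0 (by linear_combination h4 : a * a = a * 1)
    rw [hs, h5, one_smul]

section lin

variable {α : MulAut Spor.Fi22} {t : Spor.Fi22} {π : centralizer ({t} : Set Spor.Fi22) →* PSU 6 F 2}
  {lift : (Fin 6 → F) → centralizer ({t} : Set Spor.Fi22)} {φ : (Fin 6 → F) → (Fin 6 → F)}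

/-- A linear isometry of order two as an element of `SU`. -/
theorem exists_su (hF : Fintype.card F = 2 ^ 2) (h : Sem 1 φ) (hφ : ∀ v, φ (φ v) = v) :
    ∃ s : SU 6 F 2, ∀ v, act s v = φ v := by
  obtain ⟨M, hM, hd3⟩ := exists_mat hF h
  have hMM : M * M = 1 := by
    apply Matrix.toLin'.injective
    apply LinearMap.ext
    intro v
    rw [Matrix.toLin'_apply, Matrix.toLin'_apply, ← Matrix.mulVec_mulVec, hM, hM, hφ,
      Matrix.one_mulVec]
  have hd2 : M.det * M.det = 1 := by rw [← Matrix.det_mul, hMM, Matrix.det_one]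
  have hd : M.det = 1 := by linear_combination hd3 - M.det * hd2
  exact ⟨mk M hd (fun x y => by rw [hM, hM, h.herm, pow_one]), fun v => by rw [act_mk, hM]⟩

/-- **The linear case**: `α` is inner. -/
theorem Dat.inner (D : Dat hF α t π lift 1 φ) : ∃ y, α = MulAut.conj y := by
  obtain ⟨s, hs⟩ := exists_su hF D.sem D.inv
  obtain ⟨c, hc⟩ := D.lab.ext.surj (pr 6 F 2 s)
  have hconj : ∀ v, Iso F v → c * lift v * c⁻¹ = lift (φ v) := by
    intro v hv
    rw [D.lab.conj c s v hc hv.1 hv.2, hs]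
  set β : MulAut Spor.Fi22 := (MulAut.conj (c : Spor.Fi22))⁻¹ * α with hβ
  have hβv : ∀ v, Iso F v → β (lift v : Spor.Fi22) = lift v := by
    intro v hv
    have h1 : (c : Spor.Fi22) * lift v * (c : Spor.Fi22)⁻¹ = lift (φ v) :=
      congrArg Subtype.val (hconj v hv)
    show (MulAut.conj (c : Spor.Fi22))⁻¹ (α (lift v : Spor.Fi22)) = lift v
    rw [D.act v hv, ← h1, MulAut.inv_apply, MulEquiv.symm_apply_eq, MulAut.conj_apply]
  obtain ⟨u, v, w, hf, h7⟩ := Cfsg.Agent.R01.FusionMain.exists_seven D.lab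
  have hu : Iso F u := ⟨hf.u_ne, hf.uu⟩
  have hv : Iso F v := ⟨hf.v_ne, hf.vv⟩
  have hw : Iso F w := ⟨hf.w_ne, hf.ww⟩
  have h2 := two_eq_zero hF
  have hadd : ∀ a b : Fin 6 → F, hermForm 6 F 2 a a = 0 → hermForm 6 F 2 b b = 0 →
      hermForm 6 F 2 a b = 0 → hermForm 6 F 2 (a + b) (a + b) = 0 := by
    intro a b ha hb hab
    rw [herm_add_left, herm_add_right hF, herm_add_right hF, ha, hb, hab, herm_eq_zero_swap hF hab]
    ring
  have hind := hf.ind
  have huv : Iso F (u + v) := by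
    refine ⟨fun h0 => ?_, hadd _ _ hf.uu hf.vv hf.uv⟩
    have := (hind 1 1 0 (by rw [one_smul, one_smul, zero_smul, add_zero, h0])).1
    exact one_ne_zero this
  have huw : Iso F (u + w) := by
    refine ⟨fun h0 => ?_, hadd _ _ hf.uu hf.ww hf.uw⟩
    have := (hind 1 0 1 (by rw [one_smul, one_smul, zero_smul, add_zero, h0])).1
    exact one_ne_zero this
  have hvw : Iso F (v + w) := by
    refine ⟨fun h0 => ?_, hadd _ _ hf.vv hf.ww hf.vw⟩
    have := (hind 0 1 1 (by rw [one_smul, one_smul, zero_smul, zero_add, h0])).2.1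
    exact one_ne_zero this
  have huvw : Iso F (u + v + w) := by
    refine ⟨fun h0 => ?_, hadd _ _ huv.2 hf.ww ?_⟩
    · have := (hind 1 1 1 (by rw [one_smul, one_smul, one_smul, h0])).1
      exact one_ne_zero this
    · rw [herm_add_left, hf.uw, hf.vw, add_zero]
  have hmT : ∀ x, Iso F x → (lift x : Spor.Fi22) ∈ Base.T := fun x hx =>
    (D.mem _).2 (Or.inr (Lab.mem_D hx.1 hx.2))
  have hin : ∃ x : Spor.Fi22, β = MulAut.conj x := by
    refine D8.Fi22.SylAut.inner_of_fix (l := [(lift u : Spor.Fi22), lift v, lift w, lift (u + v),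
      lift (u + w), lift (v + w), lift (u + v + w)]) (⟨3, rfl⟩) ?_ ?_ ?_
    · simp only [List.mem_cons, List.not_mem_nil, or_false]
      rintro x (rfl | rfl | rfl | rfl | rfl | rfl | rfl)
      exacts [hmT _ hu, hmT _ hv, hmT _ hw, hmT _ huv, hmT _ huw, hmT _ hvw, hmT _ huvw]
    · simp only [List.prod_cons, List.prod_nil, mul_one]
      have := congrArg Subtype.val h7
      simp only [Subgroup.coe_mul, Subgroup.coe_one, mul_assoc] at this
      exact this
    · simp only [List.mem_cons, List.not_mem_nil, or_false]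
      rintro x (rfl | rfl | rfl | rfl | rfl | rfl | rfl)
      exacts [hβv _ hu, hβv _ hv, hβv _ hw, hβv _ huv, hβv _ huw, hβv _ hvw, hβv _ huvw]
  obtain ⟨y, hy⟩ := hin
  refine ⟨(c : Spor.Fi22) * y, ?_⟩
  rw [map_mul, ← hy, hβ, mul_inv_cancel_left]

end lin

section semi

variable {α : MulAut Spor.Fi22} {t : Spor.Fi22} {π : centralizer ({t} : Set Spor.Fi22) →* PSU 6 F 2}
  {lift : (Fin 6 → F) → centralizer ({t} : Set Spor.Fi22)} {φ : (Fin 6 → F) → (Fin 6 → F)}

/-- the fixed isotropic vectors label fixed transpositions -/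
theorem Dat.mem_A {e : ℕ} (D : Dat hF α t π lift e φ) {v : Fin 6 → F} (hv : Iso F v) (h : φ v = v) :
    (lift v : Spor.Fi22) ∈ A α t := by
  refine ⟨⟨(D.mem _).2 (Or.inr (Lab.mem_D hv.1 hv.2)), ?_⟩, fun h1 => ?_, ?_⟩
  · rw [D.act v hv, h]
  · have h2 : lift v = zel t := Subtype.ext h1
    exact D.lab.z_notMem (h2 ▸ Lab.mem_D hv.1 hv.2)
  · exact mem_centralizer_singleton_iff.1 (lift v).2

/-- the members of `A α t` are labelled by fixed isotropic vectors -/
theorem Dat.exists_v (D : Dat hF α t π lift 2 φ) {s : Spor.Fi22} (hs : s ∈ A α t) :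
    ∃ v, Iso F v ∧ φ v = v ∧ s = lift v := by
  have hsC : s ∈ centralizer ({t} : Set Spor.Fi22) := mem_centralizer_singleton_iff.2 hs.2.2
  obtain ⟨v, hv0, hv, hx⟩ : (⟨s, hsC⟩ : centralizer ({t} : Set Spor.Fi22)) ∈ Dset lift := by
    rcases (D.mem ⟨s, hsC⟩).1 hs.1.1 with h | h
    · exact absurd (congrArg Subtype.val h) hs.2.1
    · exact h
  have hvi : Iso F v := ⟨hv0, hv⟩
  have hφi : Iso F (φ v) := D.sem.iso hF (Or.inr rfl) hvi
  have h1 : lift v = lift (φ v) := by
    apply Subtype.ext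
    rw [← D.act v hvi, ← hx]
    exact hs.1.2.symm
  obtain ⟨c, hc0, hc⟩ := (D.lab.lift_eq_iff hv hφi.2 hv0 hφi.1).1 h1
  -- rescale
  refine ⟨c⁻¹ • v, ⟨smul_ne_zero (inv_ne_zero hc0) hv0, ?_⟩, ?_, ?_⟩
  · rw [herm_smul_left, herm_smul_right, hv, mul_zero, mul_zero]
  · rw [D.sem.smul, hc, smul_smul]
    congr 1
    have h3 : c ^ 3 = 1 := pow_three hF hc0
    field_simp
  · rw [D.lab.smul v c⁻¹ hv (inv_ne_zero hc0)]
    exact congrArg Subtype.val hx

/-- **The type with a twin.** -/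
theorem Dat.twin (D : Dat hF α t π lift 2 φ) {g k : Fin 3 → (Fin 6 → F)} (hb : Hyp g k)
    (hg : ∀ i, φ (g i) = g i) (h1 : φ (k 1) = k 1) (h2 : φ (k 2) = k 2) (h0 : φ (k 0) = k 0 + g 0) :
    Tw α t (lift (g 0)) := by
  have hgi := hyp_iso_g hF hb
  have hki := hyp_iso_k hF hb
  have two := two_eq_zero hF
  -- a fixed isotropic vector is orthogonal to `g 0`
  have key : ∀ v, Iso F v → φ v = v → hermForm 6 F 2 v (g 0) = 0 := by
    intro v hv hf
    have e1 : hermForm 6 F 2 v (k 0) ^ 2 = hermForm 6 F 2 v (k 0) + hermForm 6 F 2 v (g 0) := by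
      rw [← D.sem.herm, hf, h0, herm_add_right hF]
    have f0 : ∀ w, φ w = w → hermForm 6 F 2 v w ^ 2 = hermForm 6 F 2 v w := by
      intro w hw
      rw [← D.sem.herm, hf, hw]
    have hx := congrArg (fun y => hermForm 6 F 2 y v) (hyp_expand hF hb v)
    simp only [Fin.sum_univ_three, herm_add_left, herm_smul_left] at hx
    rw [herm_swap hF v (g 0), herm_swap hF v (g 1), herm_swap hF v (g 2), herm_swap hF v (k 0),
      herm_swap hF v (k 1), herm_swap hF v (k 2), hv.2, f0 _ (hg 0), f0 _ (hg 1), f0 _ (hg 2), e1,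
      f0 _ h1, f0 _ h2] at hx
    have e2 := f0 _ (hg 0)
    linear_combination -hx - e2 - (hermForm 6 F 2 v (k 0) * hermForm 6 F 2 v (g 0) +
      hermForm 6 F 2 v (k 1) * hermForm 6 F 2 v (g 1) +
      hermForm 6 F 2 v (k 2) * hermForm 6 F 2 v (g 2)) * two
  refine ⟨D.mem_A (hgi 0) (hg 0), ?_, ?_⟩
  · intro r hr
    obtain ⟨v, hv, hf, rfl⟩ := D.exists_v hr
    have := (D.lab.commute_iff hv.2 (hgi 0).2 hv.1 (hgi 0).1).2 (key v hv hf)
    exact congrArg Subtype.val this.eq
  · intro r hr hq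
    obtain ⟨v, hv, hf, rfl⟩ := D.exists_v hr
    have ho : ∀ w, Iso F w → φ w = w → hermForm 6 F 2 v w = 0 := by
      intro w hw hwf
      rw [← D.lab.commute_iff hv.2 hw.2 hv.1 hw.1]
      exact Subtype.ext (hq _ (D.mem_A hw hwf)).symm
    have hx := hyp_expand hF hb v
    simp only [Fin.sum_univ_three] at hx
    rw [ho _ (hgi 0) (hg 0), ho _ (hgi 1) (hg 1), ho _ (hgi 2) (hg 2), ho _ (hki 1) h1, ho _ (hki 2) h2,
      zero_smul, zero_smul, zero_smul, zero_smul, zero_smul] at hx
    simp only [add_zero] at hx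
    have hc : hermForm 6 F 2 v (k 0) ≠ 0 := by
      intro h3
      rw [h3, zero_smul] at hx
      exact hv.1 hx
    have h4 := D.lab.smul (g 0) _ (hgi 0).2 hc
    rw [← hx] at h4
    exact congrArg Subtype.val h4

end semi

end Cfsg.Agent.OddHalf.NI3.Ex.FiRow.Semi

end

-- merged: Cfsg.Agent.OddHalf.NI3.Ex.FiRow.FixSp
section

/-!
# (EX3), row `Fi22`: the fixed points of a semilinear involution with a fixed hyperbolic basis (helper286)

`φ` semilinear on `F^6`, `|F| = 4`, fixing a hyperbolic basis `g`, `k`: the elements of `SU₆(2)` commuting with `φ`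
form a subgroup isomorphic to `Sp₆(2)`, and so do their images in `PSU₆(2)`.
-/

set_option autoImplicit false
set_option linter.unusedSectionVars false

namespace Cfsg.Agent.OddHalf.NI3.Ex.FiRow.FixSp

open Cfsg Cfsg.Agent.LieClassical.HermBasic Cfsg.Agent.ClassicalGeometry.UnitTransv
open Cfsg.Agent.SporadicStructure.UnitTwo
open Cfsg.Agent.R01.PSUSix
open Cfsg.Agent.R01.Frames (Hyp)
open Cfsg.Agent.R01.ComLabel (Iso)
open Cfsg.Agent.ClassicalGeometry.UnitAutBasic (tau pr pr_surjective)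
open Cfsg.Agent.U62.Semi
open Cfsg.Agent.Co2Type.Setup
open scoped Matrix
open Matrix

variable {F : Type*} [Field F] [Fintype F]

/-- the basis -/
def bv (g k : Fin 3 → (Fin 6 → F)) : Fin 3 ⊕ Fin 3 → (Fin 6 → F) := Sum.elim g k

/-- the dual basis -/
def dv (g k : Fin 3 → (Fin 6 → F)) : Fin 3 ⊕ Fin 3 → (Fin 6 → F) := Sum.elim k g

/-- the matrix of the basis -/
def Bm (g k : Fin 3 → (Fin 6 → F)) : Matrix (Fin 6) (Fin 3 ⊕ Fin 3) F := Matrix.of fun r l => bv g k l r

/-- the matrix of the coordinates -/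
def Cm (g k : Fin 3 → (Fin 6 → F)) : Matrix (Fin 3 ⊕ Fin 3) (Fin 6) F := Matrix.of fun l r => dv g k l r ^ 2

variable {g k : Fin 3 → (Fin 6 → F)}

theorem Cm_apply (x : Fin 6 → F) (l : Fin 3 ⊕ Fin 3) : (Cm g k *ᵥ x) l = hermForm 6 F 2 x (dv g k l) := by
  rw [herm_def, Matrix.mulVec, dotProduct]
  exact Finset.sum_congr rfl fun i _ => mul_comm _ _

theorem Bm_apply (c : Fin 3 ⊕ Fin 3 → F) : Bm g k *ᵥ c = ∑ l, c l • bv g k l := by
  funext r
  rw [Matrix.mulVec, dotProduct, Finset.sum_apply]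
  exact Finset.sum_congr rfl fun i _ => mul_comm _ _

theorem Bm_single (l : Fin 3 ⊕ Fin 3) : Bm g k *ᵥ Pi.single l 1 = bv g k l := by
  funext r
  rw [Matrix.mulVec_single_one]
  rfl

section hyp

variable (hF : Fintype.card F = 2 ^ 2) (hb : Hyp g k)
include hF hb

theorem BC_mulVec (x : Fin 6 → F) : Bm g k *ᵥ (Cm g k *ᵥ x) = x := by
  rw [Bm_apply, Fintype.sum_sum_type]
  simp only [Cm_apply]
  conv_rhs => rw [hyp_expand hF hb x, Finset.sum_add_distrib]
  rfl

theorem BC : Bm g k * Cm g k = 1 := by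
  apply Matrix.toLin'.injective
  apply LinearMap.ext
  intro v
  rw [Matrix.toLin'_apply, Matrix.toLin'_apply, ← Matrix.mulVec_mulVec, BC_mulVec hF hb, Matrix.one_mulVec]

theorem CB : Cm g k * Bm g k = 1 := by
  apply Matrix.toLin'.injective
  apply LinearMap.pi_ext'
  intro l
  apply LinearMap.ext_ring
  rw [LinearMap.comp_apply, LinearMap.comp_apply, Matrix.toLin'_apply, Matrix.toLin'_apply,
    ← Matrix.mulVec_mulVec, Matrix.one_mulVec]
  show Cm g k *ᵥ (Bm g k *ᵥ Pi.single l 1) = Pi.single l 1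
  rw [Bm_single]
  funext l'
  rw [Cm_apply]
  rcases l with i | i <;> rcases l' with j | j
  · show hermForm 6 F 2 (g i) (k j) = _
    rw [hb.gk]
    by_cases h : i = j
    · subst h; simp
    · rw [if_neg h, Pi.single_eq_of_ne]
      intro h'; exact h (Sum.inl.inj h').symm
  · show hermForm 6 F 2 (g i) (g j) = _
    rw [hb.gg, Pi.single_eq_of_ne]
    exact Sum.inr_ne_inl
  · show hermForm 6 F 2 (k i) (k j) = _
    rw [hb.kk, Pi.single_eq_of_ne]
    exact Sum.inl_ne_inr
  · show hermForm 6 F 2 (k i) (g j) = _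
    rw [hb.kg hF]
    by_cases h : i = j
    · subst h; simp
    · rw [if_neg h, Pi.single_eq_of_ne]
      intro h'; exact h (Sum.inr.inj h').symm

theorem CB_mulVec (c : Fin 3 ⊕ Fin 3 → F) : Cm g k *ᵥ (Bm g k *ᵥ c) = c := by
  rw [Matrix.mulVec_mulVec, CB hF hb, Matrix.one_mulVec]

omit [Fintype F] hF hb in
theorem J_mulVec (d : Fin 3 ⊕ Fin 3 → F) :
    J (Fin 3) F *ᵥ d = Sum.elim (fun i => - d (Sum.inr i)) (fun i => d (Sum.inl i)) := by
  funext l
  rcases l with i | i
  · simp [J, Matrix.mulVec, dotProduct, Fintype.sum_sum_type, Matrix.fromBlocks, Matrix.one_apply]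
  · simp [J, Matrix.mulVec, dotProduct, Fintype.sum_sum_type, Matrix.fromBlocks, Matrix.one_apply]

/-- the form in coordinates -/
theorem herm_coord (x y : Fin 6 → F) : hermForm 6 F 2 x y =
    (Cm g k *ᵥ x) ⬝ᵥ (J (Fin 3) F *ᵥ fun l => (Cm g k *ᵥ y) l ^ 2) := by
  have hx := congrArg (fun z => hermForm 6 F 2 z y) (hyp_expand hF hb x)
  simp only [Fin.sum_univ_three, herm_add_left, herm_smul_left] at hx
  rw [J_mulVec, dotProduct, Fintype.sum_sum_type]
  simp only [Sum.elim_inl, Sum.elim_inr, Cm_apply, Fin.sum_univ_three]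
  have e1 : ∀ i, dv g k (Sum.inl i) = k i := fun i => rfl
  have e2 : ∀ i, dv g k (Sum.inr i) = g i := fun i => rfl
  simp only [e1, e2]
  rw [hx, herm_swap hF y (g 0), herm_swap hF y (g 1), herm_swap hF y (g 2), herm_swap hF y (k 0),
    herm_swap hF y (k 1), herm_swap hF y (k 2)]
  linear_combination (hermForm 6 F 2 x (k 0) * hermForm 6 F 2 y (g 0) ^ 2 +
    hermForm 6 F 2 x (k 1) * hermForm 6 F 2 y (g 1) ^ 2 +
    hermForm 6 F 2 x (k 2) * hermForm 6 F 2 y (g 2) ^ 2) * two_eq_zero hF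

end hyp

/-! ### The embedding -/

section embed

variable (hF : Fintype.card F = 2 ^ 2) (hb : Hyp g k)

/-- characteristic two -/
theorem charP (hF : Fintype.card F = 2 ^ 2) : CharP F 2 := by
  have : Fact (Nat.Prime 2) := ⟨Nat.prime_two⟩
  exact charP_of_card_eq_prime_pow hF

/-- the embedding of the prime field -/
noncomputable def ι (hF : Fintype.card F = 2 ^ 2) : ZMod 2 →+* F :=
  haveI := charP hF
  ZMod.castHom (dvd_refl 2) F

/-- squaring -/
noncomputable def fr (hF : Fintype.card F = 2 ^ 2) : F →+* F :=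
  haveI := charP hF
  haveI : ExpChar F 2 := ExpChar.prime Nat.prime_two
  frobenius F 2

theorem fr_apply (x : F) : fr hF x = x ^ 2 := by
  haveI := charP hF
  haveI : ExpChar F 2 := ExpChar.prime Nat.prime_two
  exact frobenius_def 2 x

theorem fr_ι (x : ZMod 2) : fr hF (ι hF x) = ι hF x :=
  RingHom.congr_fun (Subsingleton.elim ((fr hF).comp (ι hF)) (ι hF)) x

theorem sq_mulVec (M : Matrix (Fin 3 ⊕ Fin 3) (Fin 3 ⊕ Fin 3) (ZMod 2)) (c : Fin 3 ⊕ Fin 3 → F) :
    (fun l => ((M.map (ι hF)) *ᵥ c) l ^ 2) = (M.map (ι hF)) *ᵥ fun l => c l ^ 2 := by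
  funext l
  have h1 : ((M.map (ι hF)) *ᵥ c) l ^ 2 = fr hF (((M.map (ι hF)) *ᵥ c) l) := (fr_apply hF _).symm
  rw [h1, Matrix.mulVec, dotProduct, map_sum, Matrix.mulVec, dotProduct]
  refine Finset.sum_congr rfl fun i _ => ?_
  rw [map_mul, Matrix.map_apply, fr_ι, fr_apply]

theorem det_eq_one {M : Matrix (Fin 3 ⊕ Fin 3) (Fin 3 ⊕ Fin 3) (ZMod 2)}
    (h : M ∈ symplecticGroup (Fin 3) (ZMod 2)) : M.det = 1 := by
  have h1 := SymplecticGroup.symplectic_det h
  have h2 : ∀ x : ZMod 2, x ≠ 0 → x = 1 := by decide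
  exact h2 _ h1.ne_zero

theorem dot_inv {M : Matrix (Fin 3 ⊕ Fin 3) (Fin 3 ⊕ Fin 3) (ZMod 2)}
    (h : M ∈ symplecticGroup (Fin 3) (ZMod 2)) (c d : Fin 3 ⊕ Fin 3 → F) :
    ((M.map (ι hF)) *ᵥ c) ⬝ᵥ (J (Fin 3) F *ᵥ ((M.map (ι hF)) *ᵥ d)) = c ⬝ᵥ (J (Fin 3) F *ᵥ d) := by
  have h1 : Mᵀ * J (Fin 3) (ZMod 2) * M = J (Fin 3) (ZMod 2) := SymplecticGroup.mem_iff'.1 h
  have h2 : (M.map (ι hF))ᵀ * J (Fin 3) F * M.map (ι hF) = J (Fin 3) F := by
    have h3 := congrArg (fun X => X.map (ι hF)) h1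
    simp only [Matrix.map_mul, map_J, Matrix.transpose_map] at h3
    exact h3
  rw [← Matrix.vecMul_transpose, ← Matrix.dotProduct_mulVec, Matrix.mulVec_mulVec, Matrix.mulVec_mulVec, h2]

include hb in
/-- The embedding. -/
noncomputable def Θ : Sp6 →* SU 6 F 2 where
  toFun m := mk (Bm g k * (m : Matrix (Fin 3 ⊕ Fin 3) (Fin 3 ⊕ Fin 3) (ZMod 2)).map (ι hF) * Cm g k)
    (by
      rw [Matrix.det_conj_of_mul_eq_one (BC hF hb) (CB hF hb), ← RingHom.mapMatrix_apply, ← RingHom.map_det,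
        det_eq_one m.2, map_one])
    (by
      intro x y
      rw [herm_coord hF hb, herm_coord hF hb x y, ← Matrix.mulVec_mulVec, ← Matrix.mulVec_mulVec,
        CB_mulVec hF hb, ← Matrix.mulVec_mulVec, ← Matrix.mulVec_mulVec, CB_mulVec hF hb, sq_mulVec,
        dot_inv hF m.2])
  map_one' := by
    apply ext_act
    intro x
    rw [act_mk, act_one]
    show (Bm g k * (1 : Matrix (Fin 3 ⊕ Fin 3) (Fin 3 ⊕ Fin 3) (ZMod 2)).map (ι hF) * Cm g k) *ᵥ x = x
    rw [Matrix.map_one _ (map_zero _) (map_one _), Matrix.mul_one, BC hF hb, Matrix.one_mulVec]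
  map_mul' m m' := by
    apply ext_act
    intro x
    rw [act_mul, act_mk, act_mk, act_mk]
    show (Bm g k * ((m : Matrix (Fin 3 ⊕ Fin 3) (Fin 3 ⊕ Fin 3) (ZMod 2)) * m').map (ι hF) * Cm g k) *ᵥ x = _
    rw [Matrix.map_mul]
    simp only [← Matrix.mulVec_mulVec]
    rw [CB_mulVec hF hb]

theorem act_Θ (m : Sp6) (x : Fin 6 → F) : act (Θ hF hb m) x =
    Bm g k *ᵥ ((m : Matrix (Fin 3 ⊕ Fin 3) (Fin 3 ⊕ Fin 3) (ZMod 2)).map (ι hF) *ᵥ (Cm g k *ᵥ x)) := by
  rw [Matrix.mulVec_mulVec, Matrix.mulVec_mulVec]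
  rfl

theorem Θ_injective : Function.Injective (Θ hF hb) := by
  intro m m' h
  apply Subtype.ext
  ext i j
  have h1 := congrArg (fun s => act s (bv g k j)) h
  simp only [act_Θ] at h1
  have h2 := congrArg (fun x => Cm g k *ᵥ x) h1
  simp only [CB_mulVec hF hb] at h2
  rw [← Bm_single, CB_mulVec hF hb, Matrix.mulVec_single_one, Matrix.mulVec_single_one] at h2
  exact (ι hF).injective (congrFun h2 i)

end embed

/-! ### The range -/

section range

variable (hF : Fintype.card F = 2 ^ 2) (hb : Hyp g k) {φ : (Fin 6 → F) → (Fin 6 → F)} (h : Sem 2 φ)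
  (hg : ∀ i, φ (g i) = g i) (hk : ∀ i, φ (k i) = k i)
include h hg hk

theorem fix_dv (l : Fin 3 ⊕ Fin 3) : φ (dv g k l) = dv g k l := by
  rcases l with i | i
  exacts [hk i, hg i]

theorem fix_bv (l : Fin 3 ⊕ Fin 3) : φ (bv g k l) = bv g k l := by
  rcases l with i | i
  exacts [hg i, hk i]

theorem coord_φ (x : Fin 6 → F) : Cm g k *ᵥ (φ x) = fun l => (Cm g k *ᵥ x) l ^ 2 := by
  funext l
  rw [Cm_apply, Cm_apply, ← h.herm, fix_dv h hg hk]

theorem Θ_comm (m : Sp6) (x : Fin 6 → F) : φ (act (Θ hF hb m) x) = act (Θ hF hb m) (φ x) := by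
  have h1 : Cm g k *ᵥ φ (act (Θ hF hb m) x) = Cm g k *ᵥ (act (Θ hF hb m) (φ x)) := by
    rw [coord_φ h hg hk, act_Θ, act_Θ, CB_mulVec hF hb, CB_mulVec hF hb, sq_mulVec, coord_φ h hg hk]
  rw [← BC_mulVec hF hb (φ (act (Θ hF hb m) x)), h1, BC_mulVec hF hb]

theorem exists_Θ {s : SU 6 F 2} (hs : ∀ x, φ (act s x) = act s (φ x)) : ∃ m, Θ hF hb m = s := by
  have h0 : ∀ l l', (Cm g k *ᵥ act s (bv g k l')) l ^ 2 = (Cm g k *ᵥ act s (bv g k l')) l := by
    intro l l'
    have h1 := congrFun (coord_φ h hg hk (act s (bv g k l'))) l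
    rw [← h1, hs, fix_bv h hg hk]
  have h01 : ∀ l l', ∃ c : ZMod 2, ι hF c = (Cm g k *ᵥ act s (bv g k l')) l := by
    intro l l'
    rcases zero_or_one_of_fixed hF (h0 l l') with h1 | h1
    · exact ⟨0, by rw [map_zero, h1]⟩
    · exact ⟨1, by rw [map_one, h1]⟩
  choose c hc using h01
  let M : Matrix (Fin 3 ⊕ Fin 3) (Fin 3 ⊕ Fin 3) (ZMod 2) := Matrix.of fun l l' => c l l'
  have hM : ∀ l', M.map (ι hF) *ᵥ Pi.single l' 1 = Cm g k *ᵥ act s (bv g k l') := by
    intro l'
    rw [Matrix.mulVec_single_one]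
    funext l
    exact hc l l'
  have hMx : ∀ x : Fin 3 ⊕ Fin 3 → F, M.map (ι hF) *ᵥ x = Cm g k *ᵥ act s (Bm g k *ᵥ x) := by
    intro x
    have h1 : (Matrix.toLin' (M.map (ι hF))) = (Matrix.toLin' (Cm g k)).comp
        ((Matrix.toLin' ((s : Matrix.SpecialLinearGroup (Fin 6) F) : Matrix (Fin 6) (Fin 6) F)).comp
          (Matrix.toLin' (Bm g k))) := by
      apply LinearMap.pi_ext'
      intro l
      apply LinearMap.ext_ring
      rw [LinearMap.comp_apply, LinearMap.comp_apply, Matrix.toLin'_apply, LinearMap.comp_apply,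
        LinearMap.comp_apply, Matrix.toLin'_apply, Matrix.toLin'_apply, Matrix.toLin'_apply]
      have h2 := hM l
      rw [← Bm_single] at h2
      exact h2
    exact LinearMap.congr_fun h1 x
  have hsym : M ∈ symplecticGroup (Fin 3) (ZMod 2) := by
    rw [SymplecticGroup.mem_iff']
    have key : ∀ x y : Fin 3 ⊕ Fin 3 → F, (M.map (ι hF) *ᵥ x) ⬝ᵥ (J (Fin 3) F *ᵥ
        fun l => (M.map (ι hF) *ᵥ y) l ^ 2) = x ⬝ᵥ (J (Fin 3) F *ᵥ fun l => y l ^ 2) := by
      intro x y
      have h1 := herm_act s (Bm g k *ᵥ x) (Bm g k *ᵥ y)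
      rw [herm_coord hF hb, herm_coord hF hb (Bm g k *ᵥ x), ← hMx, ← hMx, CB_mulVec hF hb,
        CB_mulVec hF hb] at h1
      exact h1
    have h2 : (Mᵀ * J (Fin 3) (ZMod 2) * M).map (ι hF) = (J (Fin 3) (ZMod 2)).map (ι hF) := by
      rw [Matrix.map_mul, Matrix.map_mul, map_J, Matrix.transpose_map]
      ext l l'
      have h3 := key (Pi.single l 1) (Pi.single l' 1)
      rw [sq_mulVec] at h3
      have h4 : (fun j => (Pi.single l' (1 : F) : Fin 3 ⊕ Fin 3 → F) j ^ 2) = Pi.single l' 1 := by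
        funext j
        by_cases hj : j = l'
        · subst hj; simp
        · simp [Pi.single_eq_of_ne hj]
      rw [h4, ← Matrix.vecMul_transpose, ← Matrix.dotProduct_mulVec, Matrix.mulVec_mulVec,
        Matrix.mulVec_mulVec] at h3
      simpa using h3
    ext i j
    have h3 := congrFun (congrFun h2 i) j
    exact (ι hF).injective h3
  refine ⟨⟨M, hsym⟩, ?_⟩
  apply ext_act
  intro x
  rw [act_Θ]
  show Bm g k *ᵥ (M.map (ι hF) *ᵥ (Cm g k *ᵥ x)) = act s x
  rw [hMx, BC_mulVec hF hb, BC_mulVec hF hb]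

end range

end Cfsg.Agent.OddHalf.NI3.Ex.FiRow.FixSp

end

-- merged: Cfsg.Agent.OddHalf.NI3.Ex.FiRow.Cent
section

/-!
# (EX3), row `Fi22`: the centralizer of `t` in `fix α` in the split semilinear case (helper286)

`SType α t`: `α` fixes the transposition `t`, acts on the labels by a semilinear map fixing a hyperbolic basis.
`spSix`: then `C(t) ∩ fix α` is an extension of `⟨t⟩` by `Sp₆(2)`.
-/

set_option autoImplicit false
set_option linter.style.haveILetI false
set_option linter.unusedSectionVars false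

namespace Cfsg.Agent.OddHalf.NI3.Ex.FiRow.Cent

open Subgroup Cfsg Cfsg.Agent.OddHalf.NI Cfsg.Agent.OddHalf.NI.Ex
open Cfsg.Agent.OddHalf.NI3.Ex.FiRow.Base Cfsg.Agent.OddHalf.NI3.Ex.FiRow.Twin
open Cfsg.Agent.OddHalf.NI3.Ex.FiRow.Semi Cfsg.Agent.OddHalf.NI3.Ex.FiRow.FixSp
open Cfsg.Agent.LieClassical.HermBasic Cfsg.Agent.ClassicalGeometry.UnitTransv
open Cfsg.Agent.SporadicStructure.UnitTwo
open Cfsg.Agent.R01.Lifts Cfsg.Agent.R01.PSUSix Cfsg.Agent.R01.Label Cfsg.Agent.R01.InvForm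
open Cfsg.Agent.R01.Start (zel)
open Cfsg.Agent.R01.Loc
open Cfsg.Agent.R01
open Cfsg.Agent.R01.Frames (Hyp)
open Cfsg.Agent.R01.ComLabel (Iso)
open Cfsg.Agent.ClassicalGeometry.UnitAutBasic (tau pr pr_surjective)
open Cfsg.Agent.U62.Semi Cfsg.Agent.U62.Semi2
open Cfsg.Agent.Co2Type.Setup (Sp6 isSimpleGroup_sp6 card_sp6 center_sp6)
open scoped Matrix

variable {F : Type*} [Field F] [Fintype F] {hF : Fintype.card F = 2 ^ 2}

/-- The split semilinear type. -/
structure SDat (hF : Fintype.card F = 2 ^ 2) (α : MulAut Spor.Fi22) (t : Spor.Fi22)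
    (π : centralizer ({t} : Set Spor.Fi22) →* PSU 6 F 2)
    (lift : (Fin 6 → F) → centralizer ({t} : Set Spor.Fi22)) (φ : (Fin 6 → F) → (Fin 6 → F))
    (g k : Fin 3 → (Fin 6 → F)) : Prop extends Dat hF α t π lift 2 φ where
  hyp : Hyp g k
  fg : ∀ i, φ (g i) = g i
  fk : ∀ i, φ (k i) = k i

/-- a scalar matrix as an element of `SU` -/
def sc (hF : Fintype.card F = 2 ^ 2) (b : F) (hb : b ≠ 0) : SU 6 F 2 :=
  mk (b • (1 : Matrix (Fin 6) (Fin 6) F))
    (by
      rw [Matrix.det_smul, Matrix.det_one, mul_one, Fintype.card_fin]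
      have := pow_three hF hb
      calc b ^ 6 = (b ^ 3) ^ 2 := by ring
        _ = 1 := by rw [this, one_pow])
    (by
      intro x y
      rw [Matrix.smul_mulVec, Matrix.smul_mulVec, Matrix.one_mulVec, Matrix.one_mulVec, herm_smul_left,
        herm_smul_right]
      linear_combination hermForm 6 F 2 x y * (Cfsg.Agent.SporadicStructure.UnitTwo.pow_three hF hb))

theorem act_sc {b : F} (hb : b ≠ 0) (x : Fin 6 → F) : act (sc hF b hb) x = b • x := by
  rw [sc, act_mk, Matrix.smul_mulVec, Matrix.one_mulVec]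

/-- a scalar isometry is trivial in `PSU` -/
theorem pr_of_scalar {s : SU 6 F 2} {a : F} (h : ∀ x, act s x = a • x) : pr 6 F 2 s = 1 := by
  refine (QuotientGroup.eq_one_iff s).2 (mem_center_iff.2 fun s' => ?_)
  apply ext_act
  intro x
  rw [act_mul, act_mul, h, h, act_smul]

variable {α : MulAut Spor.Fi22} {t : Spor.Fi22} {π : centralizer ({t} : Set Spor.Fi22) →* PSU 6 F 2}
  {lift : (Fin 6 → F) → centralizer ({t} : Set Spor.Fi22)} {φ : (Fin 6 → F) → (Fin 6 → F)}
  {g k : Fin 3 → (Fin 6 → F)}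

/-- `α` respects the centralizer of `t` -/
theorem Dat.cent_mem {e : ℕ} (D : Dat hF α t π lift e φ) (c : centralizer ({t} : Set Spor.Fi22)) :
    α (c : Spor.Fi22) ∈ centralizer ({t} : Set Spor.Fi22) := by
  have hc := mem_centralizer_singleton_iff.1 c.2
  rw [mem_centralizer_singleton_iff]
  have h1 := congrArg α hc
  rwa [map_mul, map_mul, D.fixt] at h1

/-- an element commuting with all the labels -/
theorem Dat.central {e : ℕ} (D : Dat hF α t π lift e φ) {x : centralizer ({t} : Set Spor.Fi22)}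
    (h : ∀ v, Iso F v → x * lift v = lift v * x) : x = 1 ∨ x = zel t := by
  obtain ⟨s, hs⟩ := pr_surjective (π x)
  have h1 : ∀ v, Iso F v → Pt v (act s v) := by
    intro v hv
    have h2 := D.lab.conj x s v hs.symm hv.1 hv.2
    rw [h v hv, mul_inv_cancel_right] at h2
    have h3 : Iso F (act s v) := (sem_act s).iso hF (Or.inl rfl) hv
    exact (D.lab.lift_eq_iff hv.2 h3.2 hv.1 h3.1).1 h2
  obtain ⟨-, a, ha0, hs'⟩ := scal_all hF (Or.inl rfl) (sem_act s) h1
  have h2 := pr_of_scalar hs'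
  rw [hs] at h2
  exact (D.lab.ext.ker x).1 h2

theorem SDat.iso_lift (D : SDat hF α t π lift φ g k) {v : Fin 6 → F} (hv : Iso F v) : Iso F (φ v) :=
  D.sem.iso hF (Or.inr rfl) hv

/-- the images of the fixed elements are in the range of `Θ` -/
theorem SDat.mem_range (D : SDat hF α t π lift φ g k) {c : centralizer ({t} : Set Spor.Fi22)}
    (hc : α (c : Spor.Fi22) = c) : ∃ m, pr 6 F 2 (Θ hF D.hyp m) = π c := by
  obtain ⟨s, hs⟩ := pr_surjective (π c)
  have hcj : ∀ v, Iso F v → (c : Spor.Fi22) * lift v * (c : Spor.Fi22)⁻¹ = lift (act s v) := fun v hv =>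
    congrArg Subtype.val (D.lab.conj c s v hs.symm hv.1 hv.2)
  have his : ∀ v, Iso F v → Iso F (act s v) := fun v hv => (sem_act s).iso hF (Or.inl rfl) hv
  have h1 : ∀ v, Iso F v → (lift (φ (act s v)) : Spor.Fi22) = lift (act s (φ v)) := by
    intro v hv
    rw [← D.act _ (his v hv), ← hcj v hv, map_mul, map_mul, map_inv, hc, D.act v hv,
      hcj _ (D.iso_lift hv)]
  have hsem : Sem 1 (fun v => act s⁻¹ (φ (act s (φ v)))) := by
    have h2 := (sem_act s⁻¹).comp (D.sem.comp ((sem_act s).comp D.sem))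
    exact Sem.four hF h2
  have hpt : ∀ v, Iso F v → Pt v (act s⁻¹ (φ (act s (φ v)))) := by
    intro v hv
    have h2 := h1 _ (D.iso_lift hv)
    rw [D.inv] at h2
    obtain ⟨c, hc0, hc⟩ := (D.lab.lift_eq_iff (his v hv).2 (D.iso_lift (his _ (D.iso_lift hv))).2
      (his v hv).1 (D.iso_lift (his _ (D.iso_lift hv))).1).1 (Subtype.ext h2.symm)
    exact ⟨c, hc0, by rw [hc, act_smul, act_inv_act]⟩
  obtain ⟨-, a, ha0, ha⟩ := scal_all hF (Or.inl rfl) hsem hpt
  have h3 : ∀ v, φ (act s v) = a • act s (φ v) := by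
    intro v
    have h4 := congrArg (act s) (ha (φ v))
    rw [D.inv, act_act_inv, act_smul] at h4
    exact h4
  have ha2 : a ^ 2 ≠ 0 := pow_ne_zero 2 ha0
  have h5 : ∀ v, φ (act (sc hF (a ^ 2) ha2 * s) v) = act (sc hF (a ^ 2) ha2 * s) (φ v) := by
    intro v
    rw [act_mul, act_mul, act_sc, act_sc, D.sem.smul, h3, smul_smul]
    congr 1
    have := pow_three hF ha0
    linear_combination (a ^ 2) * this
  obtain ⟨m, hm⟩ := exists_Θ hF D.hyp D.sem D.fg D.fk h5
  refine ⟨m, ?_⟩
  rw [hm, map_mul, pr_of_scalar (act_sc ha2), one_mul, hs]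

/-- lifting of the range of `Θ` -/
theorem SDat.exists_c (D : SDat hF α t π lift φ g k) (m : Sp6) :
    ∃ c : centralizer ({t} : Set Spor.Fi22), π c = pr 6 F 2 (Θ hF D.hyp m) ∧
      (α (c : Spor.Fi22) = c ∨ α (c : Spor.Fi22) = c * t) := by
  obtain ⟨c, hc⟩ := D.lab.ext.surj (pr 6 F 2 (Θ hF D.hyp m))
  refine ⟨c, hc, ?_⟩
  set s := Θ hF D.hyp m with hs
  have hcj : ∀ v, Iso F v → (c : Spor.Fi22) * lift v * (c : Spor.Fi22)⁻¹ = lift (act s v) := fun v hv =>
    congrArg Subtype.val (D.lab.conj c s v hc hv.1 hv.2)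
  have his : ∀ v, Iso F v → Iso F (act s v) := fun v hv => (sem_act s).iso hF (Or.inl rfl) hv
  have h1 : ∀ v, Iso F v → α (c : Spor.Fi22) * lift (φ v) * (α (c : Spor.Fi22))⁻¹ =
      (c : Spor.Fi22) * lift (φ v) * (c : Spor.Fi22)⁻¹ := by
    intro v hv
    rw [hcj _ (D.iso_lift hv), ← Θ_comm hF D.hyp D.sem D.fg D.fk, ← hs, ← D.act _ (his v hv), ← hcj v hv,
      map_mul, map_mul, map_inv, D.act v hv]
  have h2 : c⁻¹ * ⟨α (c : Spor.Fi22), Dat.cent_mem D.toDat c⟩ = 1 ∨
      c⁻¹ * ⟨α (c : Spor.Fi22), Dat.cent_mem D.toDat c⟩ = zel t := by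
    apply Dat.central D.toDat
    intro v hv
    have h3 := h1 _ (D.iso_lift hv)
    rw [D.inv] at h3
    apply Subtype.ext
    show (c : Spor.Fi22)⁻¹ * α (c : Spor.Fi22) * lift v = lift v * ((c : Spor.Fi22)⁻¹ * α (c : Spor.Fi22))
    have h4 : α (c : Spor.Fi22) * lift v = (c : Spor.Fi22) * lift v * (c : Spor.Fi22)⁻¹ * α (c : Spor.Fi22) :=
      mul_inv_eq_iff_eq_mul.1 h3
    rw [mul_assoc, h4]
    group
  rcases h2 with h2 | h2
  · left
    have h3 : (c : Spor.Fi22)⁻¹ * α (c : Spor.Fi22) = 1 := congrArg Subtype.val h2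
    exact (inv_mul_eq_one.1 h3).symm
  · right
    have h3 : (c : Spor.Fi22)⁻¹ * α (c : Spor.Fi22) = t := congrArg Subtype.val h2
    exact inv_mul_eq_iff_eq_mul.1 h3

/-- `C(t) ∩ fix α` -/
def M (α : MulAut Spor.Fi22) (t : Spor.Fi22) : Subgroup Spor.Fi22 := fix α ⊓ centralizer ({t} : Set Spor.Fi22)

theorem Dat.t_comm {e : ℕ} (D : Dat hF α t π lift e φ) (c : centralizer ({t} : Set Spor.Fi22)) :
    (c : Spor.Fi22) * t = t * c := mem_centralizer_singleton_iff.1 c.2

/-- **The centralizer of `t` in `fix α` is an extension of `⟨t⟩` by `Sp₆(2)`.** -/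
theorem SDat.spSix (D : SDat hF α t π lift φ g k) : ∃ q : ↥(M α t) →* Sp6, Function.Surjective q ∧
    ∀ x : ↥(M α t), q x = 1 ↔ (x : Spor.Fi22) = 1 ∨ (x : Spor.Fi22) = t := by
  have hsimple := isSimpleGroup_sp6
  let Θ' : Sp6 →* PSU 6 F 2 := (pr 6 F 2).comp (Θ hF D.hyp)
  have hΘ' : ∀ m, Θ' m = pr 6 F 2 (Θ hF D.hyp m) := fun m => rfl
  -- the restriction of `π`
  let j : ↥(M α t) →* centralizer ({t} : Set Spor.Fi22) := Subgroup.inclusion inf_le_right
  have hj : ∀ x, ((j x : centralizer ({t} : Set Spor.Fi22)) : Spor.Fi22) = x := fun x => rfl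
  have hmem : ∀ x : ↥(M α t), π (j x) ∈ Θ'.range := by
    intro x
    obtain ⟨m, hm⟩ := D.mem_range (c := j x) x.2.1
    exact ⟨m, hm⟩
  -- a nontrivial element
  have hg0 := hyp_iso_g hF D.hyp 0
  have hx0 : (lift (g 0) : Spor.Fi22) ∈ M α t := ⟨(Semi.Dat.mem_A D.toDat hg0 (D.fg 0)).1.2, (lift (g 0)).2⟩
  have hx1 : π (j ⟨_, hx0⟩) ≠ 1 := by
    have h1 : j ⟨_, hx0⟩ = lift (g 0) := Subtype.ext rfl
    rw [h1, D.lab.map _ hg0.1 hg0.2]
    exact tau_ne_one hF (by norm_num) hg0.2 hg0.1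
  have hinj : Function.Injective Θ' := by
    rw [← MonoidHom.ker_eq_bot_iff]
    rcases hsimple.eq_bot_or_eq_top_of_normal Θ'.ker inferInstance with h | h
    · exact h
    · exfalso
      obtain ⟨m, hm⟩ := hmem ⟨_, hx0⟩
      apply hx1
      rw [← hm]
      have : m ∈ Θ'.ker := by rw [h]; exact mem_top m
      exact this
  let E : Sp6 ≃* Θ'.range := MonoidHom.ofInjective hinj
  let q0 : ↥(M α t) →* Θ'.range := (π.comp j).codRestrict Θ'.range hmem
  let q : ↥(M α t) →* Sp6 := E.symm.toMonoidHom.comp q0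
  have hq : ∀ x, Θ' (q x) = π (j x) := by
    intro x
    have h1 : E (q x) = q0 x := E.apply_symm_apply _
    have h2 := congrArg (Subtype.val) h1
    exact h2
  refine ⟨q, ?_, ?_⟩
  · -- surjectivity
    have hnorm : (q.range).Normal := by
      constructor
      rintro _ ⟨x, rfl⟩ m
      obtain ⟨c, hc, hα⟩ := D.exists_c m
      have hcc : (c : Spor.Fi22) * x * (c : Spor.Fi22)⁻¹ ∈ M α t := by
        refine ⟨?_, (centralizer ({t} : Set Spor.Fi22)).mul_mem ((centralizer ({t} : Set Spor.Fi22)).mul_mem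
          c.2 x.2.2) ((centralizer ({t} : Set Spor.Fi22)).inv_mem c.2)⟩
        show α ((c : Spor.Fi22) * x * (c : Spor.Fi22)⁻¹) = _
        rw [map_mul, map_mul, map_inv, show α (x : Spor.Fi22) = x from x.2.1]
        rcases hα with h | h
        · rw [h]
        · rw [h]
          have h1 : (x : Spor.Fi22) * t = t * x := mem_centralizer_singleton_iff.1 x.2.2
          calc (c : Spor.Fi22) * t * x * (c * t)⁻¹ = c * (t * x) * t⁻¹ * (c : Spor.Fi22)⁻¹ := by group
            _ = c * (x * t) * t⁻¹ * (c : Spor.Fi22)⁻¹ := by rw [h1]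
            _ = c * x * (c : Spor.Fi22)⁻¹ := by group
      refine ⟨⟨_, hcc⟩, ?_⟩
      apply hinj
      rw [hq, map_mul, map_mul, map_inv, hq]
      have h2 : j ⟨_, hcc⟩ = c * j x * c⁻¹ := Subtype.ext rfl
      rw [h2, map_mul, map_mul, map_inv, hc, hΘ']
    rcases hnorm.eq_bot_or_eq_top with h | h
    · exfalso
      have h1 : q ⟨_, hx0⟩ ∈ q.range := ⟨_, rfl⟩
      rw [h, mem_bot] at h1
      apply hx1
      rw [← hq, h1, map_one]
    · exact MonoidHom.range_eq_top.1 h
  · intro x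
    rw [← hinj.eq_iff, hq, map_one, D.lab.ext.ker]
    constructor
    · rintro (h | h)
      · left; exact congrArg Subtype.val h
      · right; exact congrArg Subtype.val h
    · rintro (h | h)
      · left; exact Subtype.ext h
      · right; exact Subtype.ext h

end Cfsg.Agent.OddHalf.NI3.Ex.FiRow.Cent

end

-- merged: Cfsg.Agent.OddHalf.NI3.Ex.FiRow.Kill
section

/-!
# (EX3), row `Fi22`: 3-transpositions and components (helper286)

`t` a 3-transposition, `J` a quasisimple subgroup normalised but not centralised by `t`.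
* `exists_comm`: some `t^j ≠ t`, `j ∈ J`, commutes with `t` (Glauberman's Z*-theorem).
* `unique_moved`: `t` does not normalise, without centralising it, another quasisimple subgroup commuting with `J`.
-/

set_option autoImplicit false
set_option linter.style.haveILetI false

namespace Cfsg.Agent.OddHalf.NI3.Ex.FiRow.Kill

open Subgroup Cfsg Cfsg.Agent.OddHalf.NI Cfsg.Agent.OddHalf.D3
open scoped commutatorElement

variable {X : Type*} [Group X]

/-- An automorphism which is trivial modulo the centre of a perfect group is trivial. -/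
theorem comm_of_center {J : Subgroup X} (hp : ⁅J, J⁆ = J) {t : X}
    (h : ∀ j ∈ J, ∃ z ∈ J, (∀ x ∈ J, z * x = x * z) ∧ t * j * t⁻¹ = z * j) : ∀ j ∈ J, t * j = j * t := by
  have h1 : ⁅J, J⁆ ≤ centralizer ({t} : Set X) := by
    rw [commutator_le]
    intro a ha b hb
    obtain ⟨z, hz, hzc, ez⟩ := h a ha
    obtain ⟨w, hw, hwc, ew⟩ := h b hb
    rw [mem_centralizer_singleton_iff]
    have h2 : t * ⁅a, b⁆ * t⁻¹ = ⁅a, b⁆ := by
      rw [commutatorElement_def]
      have e1 : t * (a * b * a⁻¹ * b⁻¹) * t⁻¹ = (t * a * t⁻¹) * (t * b * t⁻¹) * (t * a * t⁻¹)⁻¹ *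
        (t * b * t⁻¹)⁻¹ := by group
      rw [e1, ez, ew]
      have c1 : ∀ x ∈ J, (z * w) * x = x * (z * w) := by
        intro x hx
        calc z * w * x = z * (w * x) := by group
          _ = (z * x) * w := by rw [hwc x hx]; group
          _ = x * (z * w) := by rw [hzc x hx]; group
      have e2 : z * a * (w * b) = z * w * (a * b) := by
        calc z * a * (w * b) = z * (a * w) * b := by group
          _ = z * (w * a) * b := by rw [hwc a ha]
          _ = z * w * (a * b) := by group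
      have e3 : w * b * (z * a) = z * w * (b * a) := by
        calc w * b * (z * a) = w * (b * z) * a := by group
          _ = (w * z) * b * a := by rw [← hzc b hb]; group
          _ = z * w * (b * a) := by rw [← hzc w hw]; group
      have hJab : a * b * (b * a)⁻¹ ∈ J := mul_mem (mul_mem ha hb) (inv_mem (mul_mem hb ha))
      calc z * a * (w * b) * (z * a)⁻¹ * (w * b)⁻¹ = (z * a * (w * b)) * (w * b * (z * a))⁻¹ := by group
        _ = z * w * (a * b) * (z * w * (b * a))⁻¹ := by rw [e2, e3]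
        _ = z * w * (a * b * (b * a)⁻¹) * (z * w)⁻¹ := by group
        _ = a * b * (b * a)⁻¹ * (z * w) * (z * w)⁻¹ := by rw [c1 _ hJab]
        _ = a * b * a⁻¹ * b⁻¹ := by group
    exact (mul_inv_eq_iff_eq_mul.1 h2).symm
  intro j hj
  rw [← hp] at hj
  exact (mem_centralizer_singleton_iff.1 (h1 hj)).symm

/-- 3-transpositions -/
structure Tr (T : Set X) : Prop where
  sq : ∀ x ∈ T, x * x = 1
  ne1 : ∀ x ∈ T, x ≠ 1
  conj : ∀ g : X, ∀ x ∈ T, g * x * g⁻¹ ∈ T
  three : ∀ x ∈ T, ∀ y ∈ T, x * y = y * x ∨ x * y * x = y * x * y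

variable {T : Set X}

theorem Tr.inv (h : Tr T) {x : X} (hx : x ∈ T) : x⁻¹ = x := inv_eq_of_mul_eq_one_left (h.sq x hx)

/-- `J ⟨t⟩` -/
def JT (J : Subgroup X) (t : X) (tt : t * t = 1) (hn : ∀ j ∈ J, t * j * t⁻¹ ∈ J) : Subgroup X where
  carrier := {x | x ∈ J ∨ x * t ∈ J}
  one_mem' := Or.inl J.one_mem
  mul_mem' := by
    have ti : t⁻¹ = t := inv_eq_of_mul_eq_one_left tt
    rintro x y (hx | hx) (hy | hy)
    · exact Or.inl (mul_mem hx hy)
    · right
      rw [mul_assoc]
      exact mul_mem hx hy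
    · right
      have h1 := mul_mem hx (hn y hy)
      have e : x * t * (t * y * t⁻¹) = x * y * t := by
        calc x * t * (t * y * t⁻¹) = x * (t * t) * y * t⁻¹ := by group
          _ = x * y * t := by rw [tt, ti, mul_one]
      rwa [e] at h1
    · left
      have h1 := mul_mem hx (hn _ hy)
      have e : x * t * (t * (y * t) * t⁻¹) = x * y := by
        calc x * t * (t * (y * t) * t⁻¹) = x * (t * t) * y := by group
          _ = x * y := by rw [tt, mul_one]
      rwa [e] at h1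
  inv_mem' := by
    have ti : t⁻¹ = t := inv_eq_of_mul_eq_one_left tt
    rintro x (hx | hx)
    · exact Or.inl (inv_mem hx)
    · right
      have h1 := hn _ (inv_mem hx)
      have e : t * (x * t)⁻¹ * t⁻¹ = x⁻¹ * t := by
        calc t * (x * t)⁻¹ * t⁻¹ = x⁻¹ * t⁻¹ := by group
          _ = x⁻¹ * t := by rw [ti]
      rwa [e] at h1

/-- **Some conjugate of `t` under `J` commutes with `t`.** -/
theorem exists_comm [Finite X] (hT : Tr T) {J : Subgroup X} (hq : IsQuasisimple J) (h2 : 2 ∣ Nat.card J) {t : X}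
    (ht : t ∈ T) (hn : ∀ j ∈ J, t * j * t⁻¹ ∈ J) (hne : ∃ j ∈ J, t * j ≠ j * t) :
    ∃ j ∈ J, j * t * j⁻¹ ≠ t ∧ t * (j * t * j⁻¹) = j * t * j⁻¹ * t := by
  by_contra hcon
  push Not at hcon
  have tt := hT.sq t ht
  have ti := hT.inv ht
  let H := JT J t tt hn
  have hJH : J ≤ H := fun x hx => Or.inl hx
  have htH : t ∈ H := Or.inr (by rw [tt]; exact J.one_mem)
  let u : H := ⟨t, htH⟩
  have hu : orderOf u = 2 := by
    rw [Subgroup.orderOf_mk, orderOf_eq_prime_iff, pow_two]
    exact ⟨tt, hT.ne1 t ht⟩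
  have hp : IsPGroup 2 (zpowers u) := by
    rw [IsPGroup.iff_card]
    exact ⟨1, by rw [Nat.card_zpowers, hu, pow_one]⟩
  obtain ⟨P, hP⟩ := hp.exists_le_sylow
  have huP : u ∈ P := hP (mem_zpowers u)
  obtain ⟨N, hN, hNo, hNc⟩ := Cfsg.Agent.S0215.result P u hu huP (by
    intro g hg
    -- the conjugate is a conjugate under `J`
    obtain ⟨j, hj, hje⟩ : ∃ j ∈ J, (g : X) * t * (g : X)⁻¹ = j * t * j⁻¹ := by
      rcases g.2 with h | h
      · exact ⟨g, h, rfl⟩
      · exact ⟨_, h, by group⟩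
    apply Subtype.ext
    show (g : X) * t * (g : X)⁻¹ = t
    rcases hT.three t ht (j * t * j⁻¹) (hT.conj j t ht) with h | h
    · by_contra h1
      rw [hje] at h1
      exact hcon j hj h1 h
    · have h3 : (u * (g * u * g⁻¹)) ^ 3 = 1 := by
        apply Subtype.ext
        show (t * ((g : X) * t * (g : X)⁻¹)) ^ 3 = 1
        rw [hje]
        set v := j * t * j⁻¹ with hv
        have hvv : v * v = 1 := hT.sq _ (hT.conj j t ht)
        calc (t * v) ^ 3 = (t * v * t) * (v * t * v) := by rw [pow_succ, pow_two]; group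
          _ = (v * t * v) * (v * t * v) := by rw [h]
          _ = v * t * (v * v) * t * v := by group
          _ = v * (t * t) * v := by rw [hvv]; group
          _ = 1 := by rw [tt, mul_one, hvv]
      have h4 : u * (g * u * g⁻¹) ∈ P := mul_mem huP hg
      obtain ⟨k, hk⟩ := P.2 ⟨_, h4⟩
      have h5 : (u * (g * u * g⁻¹)) ^ 2 ^ k = 1 := congrArg Subtype.val hk
      have h6 : orderOf (u * (g * u * g⁻¹)) ∣ 1 := by
        have h7 : Nat.Coprime 3 (2 ^ k) := Nat.Coprime.pow_right k (by norm_num)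
        rw [← h7.gcd_eq_one]
        exact Nat.dvd_gcd (orderOf_dvd_of_pow_eq_one h3) (orderOf_dvd_of_pow_eq_one h5)
      have h7 : u * (g * u * g⁻¹) = 1 := orderOf_eq_one_iff.1 (Nat.dvd_one.1 h6)
      have h8 : t * ((g : X) * t * (g : X)⁻¹) = 1 := congrArg Subtype.val h7
      rw [← inv_eq_of_mul_eq_one_right h8, ti])
  let NJ : Subgroup J := (N.map H.subtype).subgroupOf J
  have hmem : ∀ x : X, ∀ hx : x ∈ H, x ∈ N.map H.subtype ↔ (⟨x, hx⟩ : H) ∈ N := by
    intro x hx
    constructor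
    · rintro ⟨y, hy, rfl⟩
      exact hy
    · intro h
      exact ⟨_, h, rfl⟩
  have hNJ : NJ.Normal := by
    constructor
    intro n hn' x
    have h3 : (n : X) ∈ N.map H.subtype := hn'
    rw [hmem _ (hJH n.2)] at h3
    show ((x : X) * n * (x : X)⁻¹) ∈ N.map H.subtype
    rw [hmem _ (hJH (mul_mem (mul_mem x.2 n.2) (inv_mem x.2)))]
    exact hN.conj_mem _ h3 ⟨x, hJH x.2⟩
  rcases Cfsg.Agent.Lib.ComponentSolvable.quasisimple_normal_cases hq hNJ with h | h
  · have h3 : J ≤ N.map H.subtype := by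
      intro x hx
      have : (⟨x, hx⟩ : J) ∈ NJ := by rw [h]; exact mem_top _
      exact this
    have h4 := card_dvd_of_le h3
    have h5 : Nat.card (N.map H.subtype) = Nat.card N :=
      Nat.card_congr (N.equivMapOfInjective _ H.subtype_injective).symm.toEquiv
    rw [h5] at h4
    exact (Nat.not_even_iff_odd.2 hNo) (even_iff_two_dvd.2 (h2.trans h4))
  · obtain ⟨j, hj, hjne⟩ := hne
    apply hjne
    refine comm_of_center (Subgroup.isPerfect_iff.mp hq.1) ?_ j hj
    intro x hx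
    have h3 : t * x * t⁻¹ * x⁻¹ ∈ J := mul_mem (hn x hx) (inv_mem hx)
    have h4 : (⟨_, h3⟩ : J) ∈ NJ := by
      show t * x * t⁻¹ * x⁻¹ ∈ N.map H.subtype
      rw [hmem _ (hJH h3)]
      exact hNc ⟨x, hJH hx⟩
    refine ⟨_, h3, fun y hy => ?_, by group⟩
    exact (congrArg Subtype.val (mem_center_iff.1 (h h4) ⟨y, hy⟩)).symm

/-- **At most one component is moved.** -/
theorem unique_moved [Finite X] (hT : Tr T) {J K : Subgroup X} (hJ : IsQuasisimple J) (hK : IsQuasisimple K)
    (h2 : 2 ∣ Nat.card J) {t : X} (ht : t ∈ T) (hn : ∀ j ∈ J, t * j * t⁻¹ ∈ J) (hnK : ∀ j ∈ K, t * j * t⁻¹ ∈ K)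
    (hne : ∃ j ∈ J, t * j ≠ j * t) (hneK : ∃ j ∈ K, t * j ≠ j * t) (hc : ∀ a ∈ J, ∀ b ∈ K, a * b = b * a) :
    False := by
  have tt := hT.sq t ht
  have ti := hT.inv ht
  obtain ⟨j, hj, hjne, hjc⟩ := exists_comm hT hJ h2 ht hn hne
  set x := j * t * j⁻¹ with hx
  have hxT : x ∈ T := hT.conj j t ht
  have xx := hT.sq x hxT
  -- `ρ = t x ∈ J`
  have hρ : t * x ∈ J := by
    have h1 := mul_mem (hn j hj) (inv_mem hj)
    have e : t * j * t⁻¹ * j⁻¹ = t * x := by rw [hx, ti]; group
    rwa [e] at h1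
  have hσ : ∀ k ∈ K, t * (k * t * k⁻¹) ∈ K := by
    intro k hk
    have h1 := mul_mem (hnK k hk) (inv_mem hk)
    have e : t * k * t⁻¹ * k⁻¹ = t * (k * t * k⁻¹) := by rw [ti]; group
    rwa [e] at h1
  have hρρ : t * x * (t * x) = 1 := by
    calc t * x * (t * x) = t * (x * t) * x := by group
      _ = t * (t * x) * x := by rw [hjc]
      _ = (t * t) * (x * x) := by group
      _ = 1 := by rw [tt, xx, one_mul]
  -- all the conjugates of `t` under `K` commute with `t`
  have hcomm : ∀ k ∈ K, t * (k * t * k⁻¹) = k * t * k⁻¹ * t := by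
    intro k hk
    by_contra hcon
    set y := k * t * k⁻¹ with hy
    have hyT : y ∈ T := hT.conj k t ht
    have yy := hT.sq y hyT
    have hb := (hT.three t ht y hyT).resolve_left hcon
    have hcρσ := hc _ hρ _ (hσ k hk)
    have e0 : x * y = (t * x) * (t * y) := by
      calc x * y = x * (t * t) * y := by rw [tt]; group
        _ = (x * t) * (t * y) := by group
        _ = (t * x) * (t * y) := by rw [hjc]
    -- `(t y)^3 = 1`
    have h3 : t * y * (t * y) * (t * y) = 1 := by
      calc t * y * (t * y) * (t * y) = (t * y * t) * (y * t * y) := by group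
        _ = (y * t * y) * (y * t * y) := by rw [hb]
        _ = y * t * (y * y) * t * y := by group
        _ = y * (t * t) * y := by rw [yy]; group
        _ = 1 := by rw [tt, mul_one, yy]
    set ρ := t * x with hρd
    set σ := t * y with hσd
    have hcomm' : ρ * σ = σ * ρ := hcρσ
    rcases hT.three x hxT y hyT with h | h
    · -- `(x y)^2 = 1`
      have h4 : x * y * (x * y) = 1 := by
        calc x * y * (x * y) = x * (y * x) * y := by group
          _ = x * (x * y) * y := by rw [h]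
          _ = (x * x) * (y * y) := by group
          _ = 1 := by rw [xx, yy, one_mul]
      rw [e0] at h4
      have h5 : σ * σ = 1 := by
        calc σ * σ = (ρ * ρ) * (σ * σ) := by rw [hρρ, one_mul]
          _ = ρ * (ρ * σ) * σ := by group
          _ = ρ * (σ * ρ) * σ := by rw [hcomm']
          _ = ρ * σ * (ρ * σ) := by group
          _ = 1 := h4
      rw [h5, one_mul] at h3
      apply hcon
      have h6 : y = t := (eq_inv_of_mul_eq_one_right h3).trans ti
      rw [hσd, h6]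
    · have h4 : x * y * (x * y) * (x * y) = 1 := by
        calc x * y * (x * y) * (x * y) = (x * y * x) * (y * x * y) := by group
          _ = (y * x * y) * (y * x * y) := by rw [h]
          _ = y * x * (y * y) * x * y := by group
          _ = y * (x * x) * y := by rw [yy]; group
          _ = 1 := by rw [xx, mul_one, yy]
      rw [e0] at h4
      have h5 : ρ = 1 := by
        calc ρ = (ρ * ρ) * ρ * (σ * σ * σ) := by rw [hρρ, h3]; group
          _ = ρ * σ * (ρ * σ) * (ρ * σ) := by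
            have c : Commute ρ σ := hcomm'
            have e1 : ρ * σ * (ρ * σ) * (ρ * σ) = (ρ * σ) ^ 3 := by rw [pow_succ, pow_two]
            rw [e1, c.mul_pow, pow_succ ρ, pow_two, pow_succ σ, pow_two]
          _ = 1 := h4
      apply hjne
      rw [hρd] at h5
      have h6 : x = t⁻¹ := eq_inv_of_mul_eq_one_right h5
      rw [h6, ti]
  -- the abelian normal subgroup
  have hcc : ∀ k ∈ K, ∀ l ∈ K, (k * t * k⁻¹) * (l * t * l⁻¹) = (l * t * l⁻¹) * (k * t * k⁻¹) := by
    intro k hk l hl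
    have h1 := hcomm (k⁻¹ * l) (mul_mem (inv_mem hk) hl)
    calc (k * t * k⁻¹) * (l * t * l⁻¹) = k * (t * (k⁻¹ * l * t * (k⁻¹ * l)⁻¹)) * k⁻¹ := by group
      _ = k * (k⁻¹ * l * t * (k⁻¹ * l)⁻¹ * t) * k⁻¹ := by rw [h1]
      _ = _ := by group
  set A : Set K := {a | ∃ k ∈ K, (a : X) = t * (k * t * k⁻¹)} with hA
  have hAc : ∀ a ∈ A, ∀ b ∈ A, a * b = b * a := by
    rintro a ⟨k, hk, ha⟩ b ⟨l, hl, hb⟩
    apply Subtype.ext
    show (a : X) * b = b * a
    rw [ha, hb]
    have c1 : Commute t (k * t * k⁻¹) := hcomm k hk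
    have c2 : Commute t (l * t * l⁻¹) := hcomm l hl
    have c3 : Commute (k * t * k⁻¹) (l * t * l⁻¹) := hcc k hk l hl
    exact (((Commute.refl t).mul_right c2).mul_left (c1.symm.mul_right c3)).eq
  have hAn : ∀ a ∈ A, ∀ l : K, l * a * l⁻¹ ∈ closure A := by
    rintro a ⟨k, hk, ha⟩ l
    have m1 : (⟨t * ((l : X) * t * (l : X)⁻¹), hσ l l.2⟩ : K) ∈ A := ⟨l, l.2, rfl⟩
    have m2 : (⟨t * (((l : X) * k) * t * ((l : X) * k)⁻¹), hσ _ (mul_mem l.2 hk)⟩ : K) ∈ A :=
      ⟨_, mul_mem l.2 hk, rfl⟩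
    have e : l * a * l⁻¹ = (⟨t * ((l : X) * t * (l : X)⁻¹), hσ l l.2⟩ : K) *
        ⟨t * (((l : X) * k) * t * ((l : X) * k)⁻¹), hσ _ (mul_mem l.2 hk)⟩ := by
      apply Subtype.ext
      show (l : X) * a * (l : X)⁻¹ = t * ((l : X) * t * (l : X)⁻¹) * (t * (((l : X) * k) * t * ((l : X) * k)⁻¹))
      rw [ha]
      have c1 := hcomm l l.2
      calc (l : X) * (t * (k * t * k⁻¹)) * (l : X)⁻¹
          = ((l : X) * t * (l : X)⁻¹) * (((l : X) * k) * t * ((l : X) * k)⁻¹) := by group
        _ = ((l : X) * t * (l : X)⁻¹) * (t * t) * (((l : X) * k) * t * ((l : X) * k)⁻¹) := by rw [tt]; group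
        _ = ((l : X) * t * (l : X)⁻¹ * t) * (t * (((l : X) * k) * t * ((l : X) * k)⁻¹)) := by group
        _ = _ := by rw [← c1]
    rw [e]
    exact mul_mem (subset_closure m1) (subset_closure m2)
  have hnorm : (closure A).Normal := by
    constructor
    intro a ha l
    have h1 : closure A ≤ (closure A).comap (MulAut.conj l).toMonoidHom := by
      rw [closure_le]
      exact fun a ha => hAn a ha l
    exact h1 ha
  have hcomm2 : ∀ a ∈ closure A, ∀ b ∈ closure A, a * b = b * a := by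
    have hmc : IsMulCommutative (closure A) := Subgroup.isMulCommutative_closure fun x hx y hy => hAc x hx y hy
    intro a ha b hb
    have h3 : (⟨a, ha⟩ : closure A) * ⟨b, hb⟩ = ⟨b, hb⟩ * ⟨a, ha⟩ := mul_comm' _ _
    exact congrArg Subtype.val h3
  rcases Cfsg.Agent.Lib.ComponentSolvable.quasisimple_normal_cases hK hnorm with h | h
  · apply EvDiag.qs_not_comm hK
    intro a ha b hb
    exact congrArg Subtype.val (hcomm2 ⟨a, ha⟩ (by rw [h]; exact mem_top _) ⟨b, hb⟩ (by rw [h]; exact mem_top _))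
  · obtain ⟨k, hk, hkne⟩ := hneK
    apply hkne
    refine comm_of_center (Subgroup.isPerfect_iff.mp hK.1) ?_ k hk
    intro x hx
    refine ⟨_, hσ x hx, fun y hy => ?_, ?_⟩
    · have m1 : (⟨t * (x * t * x⁻¹), hσ x hx⟩ : K) ∈ closure A := subset_closure ⟨x, hx, rfl⟩
      exact (congrArg Subtype.val (mem_center_iff.1 (h m1) ⟨y, hy⟩)).symm
    · rw [ti]; group

end Cfsg.Agent.OddHalf.NI3.Ex.FiRow.Kill

end

-- merged: Cfsg.Agent.OddHalf.NI3.Ex.FiRow.SType
section

/-!
# (EX3), row `Fi22`: components at a transposition with nonabelian simple centralizer (helper286)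

`α² = 1`, `t` a 3-transposition fixed by `α`, `C(t) ∩ fix α` an extension of `⟨t⟩` by a simple group `S`. A component
`J` of `fix α` satisfies `|J / Z(J)| = |S|` or it is normalised, not centralised by `t`, and `J ∩ C(t)` maps onto `S`.
-/

set_option autoImplicit false
set_option linter.style.haveILetI false

namespace Cfsg.Agent.OddHalf.NI3.Ex.FiRow.SType

open Subgroup Cfsg Cfsg.Agent.OddHalf.NI Cfsg.Agent.OddHalf.NI.Ex
open Cfsg.Agent.OddHalf.NI3.Ex.FiRow.Kill
open Cfsg.Agent.OddHalf.D3.EvDiag (qi index_center_of_surj Co Dg Dg_mem perfect_le_Dg qi_Dg qs_perfect qs_not_comm)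
open Cfsg.Agent.SignalizersComponents

universe u

variable {X : Type u} [Group X]

/-- A component of an extension of an abelian group by a simple group. -/
theorem qi_of_comp {M K : Subgroup X} (h : CompIn M K) {S : Type*} [Group S] [hs : IsSimpleGroup S]
    (hna : ∃ a b : S, a * b ≠ b * a) (q : ↥M →* S) (hq : Function.Surjective q)
    (hk : ∀ x y : ↥M, q x = 1 → q y = 1 → x * y = y * x) : qi K = Nat.card S := by
  have h1 := (h.comp.1.map hq).eq_bot_or_top_of_isSimpleGroup hs
  rcases h1 with h1 | h1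
  · exfalso
    apply qs_not_comm h.quasi
    intro x hx y hy
    have hm : ∀ z (hz : z ∈ K), q ⟨z, h.le hz⟩ = 1 := by
      intro z hz
      have : q ⟨z, h.le hz⟩ ∈ (K.subgroupOf M).map q := ⟨_, hz, rfl⟩
      rw [h1] at this
      exact mem_bot.1 this
    exact congrArg Subtype.val (hk ⟨x, h.le hx⟩ ⟨y, h.le hy⟩ (hm x hx) (hm y hy))
  · have h2 : Function.Surjective (q.comp (Subgroup.inclusion h.le)) := by
      intro s
      have : s ∈ (K.subgroupOf M).map q := by rw [h1]; exact mem_top s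
      obtain ⟨x, hx, rfl⟩ := this
      exact ⟨⟨x, hx⟩, rfl⟩
    have h3 : (center S).index = (center ↥K).index := by
      refine index_center_of_surj h.quasi _ h2 ?_
      intro hc
      obtain ⟨a, b, hab⟩ := hna
      exact hab (hc a b)
    have h4 : center S = ⊥ := by
      rcases hs.eq_bot_or_eq_top_of_normal (center S) inferInstance with h5 | h5
      · exact h5
      · exfalso
        obtain ⟨a, b, hab⟩ := hna
        apply hab
        have : b ∈ center S := by rw [h5]; exact mem_top b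
        exact mem_center_iff.1 this a
    show (center ↥K).index = _
    rw [← h3, h4, index_bot]

variable {T : Set X} {α : MulAut X} {t : X} {S : Type*} [Group S]

/-- The hypothesis on `C(t) ∩ fix α`. -/
structure Ext (α : MulAut X) (t : X) (q : ↥(fix α ⊓ centralizer ({t} : Set X)) →* S) : Prop where
  simple : IsSimpleGroup S
  na : ∃ a b : S, a * b ≠ b * a
  surj : Function.Surjective q
  ker : ∀ x, q x = 1 ↔ (x : X) = 1 ∨ (x : X) = t

theorem Ext.comm {q : ↥(fix α ⊓ centralizer ({t} : Set X)) →* S} (h : Ext α t q) (x y : ↥(fix α ⊓ centralizer ({t} : Set X)))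
    (hx : q x = 1) (hy : q y = 1) : x * y = y * x := by
  apply Subtype.ext
  show (x : X) * y = y * x
  rcases (h.ker x).1 hx with h1 | h1 <;> rcases (h.ker y).1 hy with h2 | h2 <;> rw [h1, h2]
  · rw [one_mul, mul_one]
  · rw [one_mul, mul_one]

/-- The case in which `t` normalises `J` without centralising it. -/
structure Bc (α : MulAut X) (t : X) (q : ↥(fix α ⊓ centralizer ({t} : Set X)) →* S) (J : Subgroup X) : Prop where
  norm : ∀ m ∈ fix α ⊓ centralizer ({t} : Set X), ∀ j ∈ J, m * j * m⁻¹ ∈ J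
  moved : ∃ j ∈ J, t * j ≠ j * t
  onto : ∀ s : S, ∃ x : ↥(fix α ⊓ centralizer ({t} : Set X)), (x : X) ∈ J ∧ q x = s

theorem cases [Finite X] (hT : Tr T) (ht : t ∈ T) (hat : α t = t)
    {q : ↥(fix α ⊓ centralizer ({t} : Set X)) →* S} (hq : Ext α t q) {J : Subgroup X} (hJ : CompIn (fix α) J)
    (h2 : 2 ∣ Nat.card ↥J) : qi J = Nat.card S ∨ Bc α t q J := by
  have hs := hq.simple
  have tt := hT.sq t ht
  have ti := hT.inv ht
  have hcjF : ∀ m ∈ fix α, D3.cj m (fix α) = fix α := by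
    intro m hm
    ext x
    rw [D3.mem_cj]
    constructor
    · intro h
      have h1 := mul_mem (mul_mem hm h) (inv_mem hm)
      have e : m * (m⁻¹ * x * m) * m⁻¹ = x := by group
      rwa [e] at h1
    · intro h
      exact mul_mem (mul_mem (inv_mem hm) h) hm
  by_cases hcen : ∀ j ∈ J, t * j = j * t
  · -- `t` centralises `J`
    left
    have hle : J ≤ fix α ⊓ centralizer ({t} : Set X) :=
      fun j hj => ⟨hJ.le hj, mem_centralizer_singleton_iff.2 (hcen j hj).symm⟩
    exact qi_of_comp (hJ.mono hle inf_le_left) hq.na q hq.surj hq.comm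
  push Not at hcen
  by_cases hst : D3.cj t J = J
  · -- `t` normalises `J`
    right
    have hn : ∀ j ∈ J, t * j * t⁻¹ ∈ J := by
      intro j hj
      have := D3.conj_mem_cj (g := t) hj
      rwa [hst] at this
    have hnorm : ∀ m ∈ fix α ⊓ centralizer ({t} : Set X), D3.cj m J = J := by
      intro m hm
      by_contra hne
      have hmt : m * t = t * m := mem_centralizer_singleton_iff.1 hm.2
      have hK : CompIn (fix α) (D3.cj m J) := hJ.conj_of_norm (hcjF m hm.1)
      have hmti : m⁻¹ * t = t * m⁻¹ := by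
        rw [inv_mul_eq_iff_eq_mul, ← mul_assoc, hmt, mul_inv_cancel_right]
      refine unique_moved hT hJ.quasi hK.quasi h2 ht hn ?_ hcen ?_ ?_
      · intro k hk
        rw [D3.mem_cj] at hk ⊢
        have h1 := hn _ hk
        have e : t * (m⁻¹ * k * m) * t⁻¹ = m⁻¹ * (t * k * t⁻¹) * m := by
          have e1 : m * t⁻¹ = t⁻¹ * m := by rw [ti]; exact hmt
          calc t * (m⁻¹ * k * m) * t⁻¹ = (t * m⁻¹) * k * (m * t⁻¹) := by group
            _ = (m⁻¹ * t) * k * (t⁻¹ * m) := by rw [hmti, e1]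
            _ = m⁻¹ * (t * k * t⁻¹) * m := by group
        rwa [e] at h1
      · obtain ⟨j, hj, hjt⟩ := hcen
        refine ⟨m * j * m⁻¹, D3.conj_mem_cj hj, fun h => hjt ?_⟩
        have h1 : m * (t * j) * m⁻¹ = m * (j * t) * m⁻¹ := by
          calc m * (t * j) * m⁻¹ = (m * t) * j * m⁻¹ := by group
            _ = t * (m * j * m⁻¹) := by rw [hmt]; group
            _ = m * j * m⁻¹ * t := h
            _ = m * j * (m⁻¹ * t) := by group
            _ = m * (j * t) * m⁻¹ := by rw [hmti]; group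
        exact mul_left_cancel (mul_right_cancel h1)
      · intro a ha b hb
        have h1 := hJ.comm hK (Ne.symm hne) ha
        exact (mem_centralizer_iff.1 h1 b hb).symm
    have hnorm' : ∀ m ∈ fix α ⊓ centralizer ({t} : Set X), ∀ j ∈ J, m * j * m⁻¹ ∈ J := by
      intro m hm j hj
      have := D3.conj_mem_cj (g := m) hj
      rwa [hnorm m hm] at this
    -- the image of `J ∩ M` is normal
    let A : Subgroup S := (J.subgroupOf (fix α ⊓ centralizer ({t} : Set X))).map q
    have hA : A.Normal := by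
      have h1 : (J.subgroupOf (fix α ⊓ centralizer ({t} : Set X))).Normal := by
        constructor
        intro j hj m
        exact hnorm' m m.2 j hj
      exact h1.map q hq.surj
    refine ⟨hnorm', hcen, ?_⟩
    rcases hA.eq_bot_or_eq_top with h | h
    · exfalso
      obtain ⟨j, hj, hjne, hjc⟩ := exists_comm hT hJ.quasi h2 ht hn hcen
      have hρ : t * (j * t * j⁻¹) ∈ J := by
        have h1 := mul_mem (hn j hj) (inv_mem hj)
        have e : t * j * t⁻¹ * j⁻¹ = t * (j * t * j⁻¹) := by rw [ti]; group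
        rwa [e] at h1
      have hM : t * (j * t * j⁻¹) ∈ fix α ⊓ centralizer ({t} : Set X) := by
        refine ⟨hJ.le hρ, mem_centralizer_singleton_iff.2 ?_⟩
        rw [mul_assoc, ← hjc]
      have h3 : q ⟨_, hM⟩ ∈ A := ⟨_, hρ, rfl⟩
      rw [h, mem_bot] at h3
      rcases (hq.ker _).1 h3 with h4 | h4
      · apply hjne
        exact (eq_inv_of_mul_eq_one_right h4).trans ti
      · have h5 : t * (j * t * j⁻¹) = t * 1 := by rw [mul_one]; exact h4
        exact hT.ne1 _ (hT.conj j t ht) (mul_left_cancel h5)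
    · intro s
      have : s ∈ A := by rw [h]; exact mem_top s
      obtain ⟨x, hx, rfl⟩ := this
      exact ⟨x, hx, rfl⟩
  · -- `t` swaps `J` with another component
    left
    let z : ↥(fix α) := ⟨t, hat⟩
    have hne' : Cit.cj z (J.subgroupOf (fix α)) ≠ J.subgroupOf (fix α) := by
      intro h
      apply hst
      ext x
      constructor
      · intro hx
        rw [D3.mem_cj] at hx
        have h1 : (⟨t⁻¹ * x * t, hJ.le hx⟩ : ↥(fix α)) ∈ J.subgroupOf (fix α) := hx
        have h3 : z * ⟨t⁻¹ * x * t, hJ.le hx⟩ * z⁻¹ ∈ Cit.cj z (J.subgroupOf (fix α)) := Cit.conj_mem_cj h1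
        rw [h] at h3
        have h4 : t * (t⁻¹ * x * t) * t⁻¹ ∈ J := h3
        have e : t * (t⁻¹ * x * t) * t⁻¹ = x := by group
        rwa [e] at h4
      · intro hx
        rw [D3.mem_cj]
        have h1 : (⟨x, hJ.le hx⟩ : ↥(fix α)) ∈ J.subgroupOf (fix α) := hx
        rw [← h, Cit.mem_cj] at h1
        exact h1
    have hzz : z * z = 1 := Subtype.ext tt
    obtain ⟨D, hDz, hDE, hDc, hDq, hD⟩ := Cit.Comp.exists_diag hJ.comp hzz hne'
    have hcomp : CompIn (centralizer ({z} : Set ↥(fix α))) D := ⟨hDz, hDc⟩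
    have h3 := compIn_map hcomp
    have hM : (centralizer ({z} : Set ↥(fix α))).map (fix α).subtype = fix α ⊓ centralizer ({t} : Set X) := by
      ext x
      constructor
      · rintro ⟨y, hy, rfl⟩
        refine ⟨y.2, mem_centralizer_singleton_iff.2 ?_⟩
        exact congrArg Subtype.val (mem_centralizer_singleton_iff.1 hy)
      · rintro ⟨h4, h5⟩
        refine ⟨⟨x, h4⟩, mem_centralizer_singleton_iff.2 (Subtype.ext ?_), rfl⟩
        exact mem_centralizer_singleton_iff.1 h5
    rw [hM] at h3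
    have hK : CompIn (fix α) (D3.cj t J) := hJ.conj_of_norm (hcjF t hat)
    have hco : Co J t := by
      intro a ha b hb
      have h1 := hJ.comm hK (Ne.symm hst) ha
      exact (mem_centralizer_iff.1 h1 b hb).symm
    have hDle : D.map (fix α).subtype ≤ Dg J t hco := by
      refine perfect_le_Dg hco tt (qs_perfect h3.quasi) ?_ ?_
      · rintro _ ⟨x, hx, rfl⟩
        have h4 := hDE hx
        have h5 : J.subgroupOf (fix α) ⊔ Cit.cj z (J.subgroupOf (fix α)) ≤
            (J ⊔ D3.cj t J).comap (fix α).subtype := by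
          refine sup_le (fun y hy => ?_) (fun y hy => ?_)
          · exact mem_sup_left hy
          · rw [Cit.mem_cj] at hy
            refine mem_sup_right ?_
            show (y : X) ∈ D3.cj t J
            rw [D3.mem_cj]
            exact hy
        exact h5 h4
      · rintro _ ⟨x, hx, rfl⟩
        exact congrArg Subtype.val (mem_centralizer_singleton_iff.1 (hDz hx))
    have hDge : Dg J t hco ≤ D.map (fix α).subtype := by
      rintro _ ⟨j, rfl⟩
      have h4 := hD ⟨j, hJ.le j.2⟩ j.2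
      exact ⟨_, h4, rfl⟩
    rw [← qi_Dg hco hJ.quasi, ← le_antisymm hDle hDge]
    exact qi_of_comp h3 hq.na q hq.surj hq.comm

/-! ### Numerical consequences of the case `Bc` -/

section numbers

variable {q : ↥(fix α ⊓ centralizer ({t} : Set X)) →* S} {J : Subgroup X}

theorem Ext.center (hq : Ext α t q) {s : S} (h : ∀ x, s * x = x * s) : s = 1 := by
  have hs := hq.simple
  have h1 : s ∈ Subgroup.center S := mem_center_iff.2 fun x => (h x).symm
  rcases hs.eq_bot_or_eq_top_of_normal (Subgroup.center S) inferInstance with h5 | h5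
  · rw [h5] at h1; exact mem_bot.1 h1
  · exfalso
    obtain ⟨a, b, hab⟩ := hq.na
    apply hab
    have : b ∈ Subgroup.center S := by rw [h5]; exact mem_top b
    exact mem_center_iff.1 this a

/-- an element of `C(t) ∩ fix α` centralising `J ∩ C(t)`, not `t`, is trivial -/
theorem Bc.central (hq : Ext α t q) (B : Bc α t q J) {m : X} (hm : m ∈ fix α ⊓ centralizer ({t} : Set X))
    (h : ∀ j ∈ J, j ∈ centralizer ({t} : Set X) → m * j = j * m) : m = 1 ∨ m = t := by
  refine (hq.ker ⟨m, hm⟩).1 (hq.center fun s => ?_)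
  obtain ⟨x, hx, rfl⟩ := B.onto s
  rw [← map_mul, ← map_mul]
  congr 1
  exact Subtype.ext (h x hx x.2.2)

/-- the centralizer of `J` -/
theorem Bc.cent_eq (hq : Ext α t q) (B : Bc α t q J) {m : X} (hm : m ∈ fix α ⊓ centralizer ({t} : Set X))
    (h : ∀ j ∈ J, m * j = j * m) : m = 1 := by
  rcases B.central hq hm (fun j hj _ => h j hj) with h1 | h1
  · exact h1
  · exfalso
    obtain ⟨j, hj, hjt⟩ := B.moved
    exact hjt (by rw [← h1]; exact h j hj)

/-- the orders -/
theorem Bc.card_dvd (B : Bc α t q J) (hle : J ≤ fix α) :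
    Nat.card S ∣ Nat.card ↥(J ⊓ centralizer ({t} : Set X)) := by
  have hle' : J ⊓ centralizer ({t} : Set X) ≤ fix α ⊓ centralizer ({t} : Set X) :=
    le_inf (inf_le_left.trans hle) inf_le_right
  refine card_dvd_of_surjective (q.comp (Subgroup.inclusion hle')) fun s => ?_
  obtain ⟨x, hx, rfl⟩ := B.onto s
  exact ⟨⟨x, hx, x.2.2⟩, rfl⟩

theorem Ext.card_M [Finite X] (hq : Ext α t q) : Nat.card ↥(fix α ⊓ centralizer ({t} : Set X)) ∣ 2 * Nat.card S := by
  have h1 := q.ker.card_mul_index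
  rw [Subgroup.index_ker, MonoidHom.range_eq_top.2 hq.surj, Subgroup.card_top] at h1
  rw [← h1]
  apply Nat.mul_dvd_mul_right
  -- the kernel has order at most two
  have h2 : ∀ x ∈ q.ker, x = 1 ∨ (x : X) = t := by
    intro x hx
    rcases (hq.ker x).1 hx with h | h
    · exact Or.inl (Subtype.ext h)
    · exact Or.inr h
  have h3 : Nat.card ↥q.ker ≤ 2 := by
    classical
    let f : ↥q.ker → Bool := fun x => decide ((x : ↥(fix α ⊓ centralizer ({t} : Set X))) = 1)
    have hf : Function.Injective f := by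
      intro x y hxy
      have h4 : ((x : ↥(fix α ⊓ centralizer ({t} : Set X))) = 1) ↔
          ((y : ↥(fix α ⊓ centralizer ({t} : Set X))) = 1) := by
        simpa [f] using hxy
      rcases h2 x x.2 with h5 | h5
      · apply Subtype.ext
        rw [h5, h4.1 h5]
      · by_cases h6 : (x : ↥(fix α ⊓ centralizer ({t} : Set X))) = 1
        · apply Subtype.ext
          rw [h6, h4.1 h6]
        · rcases h2 y y.2 with h7 | h7
          · exact absurd (h4.2 h7) h6
          · apply Subtype.ext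
            apply Subtype.ext
            rw [h5, h7]
    calc Nat.card ↥q.ker ≤ Nat.card Bool := Nat.card_le_card_of_injective f hf
      _ = 2 := by rw [Nat.card_eq_fintype_card]; rfl
  have h4 : 0 < Nat.card ↥q.ker := Nat.card_pos
  interval_cases h : Nat.card ↥q.ker
  · exact one_dvd 2
  · exact dvd_refl 2

theorem Bc.card_dvd' [Finite X] (hq : Ext α t q) (hle : J ≤ fix α) :
    Nat.card ↥(J ⊓ centralizer ({t} : Set X)) ∣ 2 * Nat.card S := by
  have hle' : J ⊓ centralizer ({t} : Set X) ≤ fix α ⊓ centralizer ({t} : Set X) :=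
    le_inf (inf_le_left.trans hle) inf_le_right
  exact (card_dvd_of_le hle').trans hq.card_M

theorem Bc.card_dvd_qi [Finite X] (hq : Ext α t q) (B : Bc α t q J) (hle : J ≤ fix α) :
    Nat.card ↥(J ⊓ centralizer ({t} : Set X)) ∣ qi J := by
  let f : ↥(J ⊓ centralizer ({t} : Set X)) →* (↥J ⧸ center ↥J) :=
    (QuotientGroup.mk' (center ↥J)).comp (Subgroup.inclusion inf_le_left)
  have hf : Function.Injective f := by
    rw [injective_iff_map_eq_one]
    intro x hx
    have h1 : (Subgroup.inclusion inf_le_left x : ↥J) ∈ center ↥J := (QuotientGroup.eq_one_iff _).1 hx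
    apply Subtype.ext
    refine B.cent_eq hq ⟨hle x.2.1, x.2.2⟩ fun j hj => ?_
    exact (congrArg Subtype.val (mem_center_iff.1 h1 ⟨j, hj⟩)).symm
  have h1 := card_subgroup_dvd_card f.range
  rw [Nat.card_congr (MonoidHom.ofInjective hf).symm.toEquiv] at h1
  exact h1

/-- the index -/
theorem Bc.card_le [Finite X] (hT : Tr T) (ht : t ∈ T) (hat : α t = t) (hle : J ≤ fix α) :
    Nat.card ↥J ≤ {x | x ∈ T ∧ α x = x}.ncard * Nat.card ↥(J ⊓ centralizer ({t} : Set X)) := by
  have h1 := ((J ⊓ centralizer ({t} : Set X)).subgroupOf J).card_mul_index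
  have h2 : Nat.card ↥((J ⊓ centralizer ({t} : Set X)).subgroupOf J) =
      Nat.card ↥(J ⊓ centralizer ({t} : Set X)) := Nat.card_congr (subgroupOfEquivOfLe inf_le_left).toEquiv
  rw [← h1, h2, mul_comm]
  apply Nat.mul_le_mul_right
  let A : Set X := {x | x ∈ T ∧ α x = x}
  have hmem : ∀ j : ↥J, (j : X) * t * (j : X)⁻¹ ∈ A := by
    intro j
    refine ⟨hT.conj j t ht, ?_⟩
    rw [map_mul, map_mul, map_inv, hat, show α (j : X) = j from hle j.2]
  have hw : ∀ a b : ↥J, a⁻¹ * b ∈ (J ⊓ centralizer ({t} : Set X)).subgroupOf J ↔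
      (a : X) * t * (a : X)⁻¹ = b * t * (b : X)⁻¹ := by
    intro a b
    have e : a⁻¹ * b ∈ (J ⊓ centralizer ({t} : Set X)).subgroupOf J ↔
        (a : X)⁻¹ * b * t = t * ((a : X)⁻¹ * b) := by
      constructor
      · intro h
        exact mem_centralizer_singleton_iff.1 h.2
      · intro h
        exact ⟨(a⁻¹ * b).2, mem_centralizer_singleton_iff.2 h⟩
    rw [e]
    constructor
    · intro h
      calc (a : X) * t * (a : X)⁻¹ = a * (t * ((a : X)⁻¹ * b)) * (b : X)⁻¹ := by group
        _ = a * ((a : X)⁻¹ * b * t) * (b : X)⁻¹ := by rw [h]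
        _ = b * t * (b : X)⁻¹ := by group
    · intro h
      calc (a : X)⁻¹ * b * t = (a : X)⁻¹ * (b * t * (b : X)⁻¹) * b := by group
        _ = (a : X)⁻¹ * (a * t * (a : X)⁻¹) * b := by rw [h]
        _ = t * ((a : X)⁻¹ * b) := by group
  let f : ↥J ⧸ ((J ⊓ centralizer ({t} : Set X)).subgroupOf J) → A := fun x =>
    Quotient.liftOn' x (fun j => (⟨_, hmem j⟩ : A)) (by
      intro a b hab
      have h3 := QuotientGroup.leftRel_apply.1 hab
      exact Subtype.ext ((hw a b).1 h3))
  have hf : Function.Injective f := by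
    intro x y
    refine Quotient.inductionOn₂' x y fun a b h => ?_
    have h3 : (a : X) * t * (a : X)⁻¹ = b * t * (b : X)⁻¹ := congrArg Subtype.val h
    exact Quotient.sound' (QuotientGroup.leftRel_apply.2 ((hw a b).2 h3))
  have h3 : Nat.card (↥J ⧸ ((J ⊓ centralizer ({t} : Set X)).subgroupOf J)) ≤ Nat.card A :=
    Nat.card_le_card_of_injective f hf
  exact h3

end numbers

end Cfsg.Agent.OddHalf.NI3.Ex.FiRow.SType

end

-- merged: Cfsg.Agent.OddHalf.NI3.Ex.FiRow.Outer
section

/-!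
# (EX3), row `Fi22`: the outer automorphisms (helper286)

`outer`: `α² = 1`, `α` not inner, `J` a component of `fix α` of even order: `|J / Z(J)| = |Sp₆(2)|` or the case `Bc` at
some fixed transposition.
-/

set_option autoImplicit false
set_option linter.style.haveILetI false
set_option linter.unusedSectionVars false

namespace Cfsg.Agent.OddHalf.NI3.Ex.FiRow.Outer

open Subgroup Cfsg Cfsg.Agent.OddHalf.NI Cfsg.Agent.OddHalf.NI.Ex
open Cfsg.Agent.OddHalf.NI3.Ex.FiRow.Base Cfsg.Agent.OddHalf.NI3.Ex.FiRow.Twin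
open Cfsg.Agent.OddHalf.NI3.Ex.FiRow.Semi Cfsg.Agent.OddHalf.NI3.Ex.FiRow.FixSp
open Cfsg.Agent.OddHalf.NI3.Ex.FiRow.Cent
open Cfsg.Agent.LieClassical.HermBasic Cfsg.Agent.ClassicalGeometry.UnitTransv
open Cfsg.Agent.SporadicStructure.UnitTwo
open Cfsg.Agent.R01.Lifts Cfsg.Agent.R01.PSUSix Cfsg.Agent.R01.Label Cfsg.Agent.R01.InvForm
open Cfsg.Agent.R01.Start (zel)
open Cfsg.Agent.R01.Frames (Hyp)
open Cfsg.Agent.R01.ComLabel (Iso)
open Cfsg.Agent.U62.Semi Cfsg.Agent.U62.Semi2
open Cfsg.Agent.Co2Type.Setup (Sp6 isSimpleGroup_sp6 card_sp6 center_sp6)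
open Cfsg.Agent.OddHalf.D3.EvDiag (qi)
open Cfsg.Agent.OddHalf.NI3.Ex.FiRow.SType (Bc)

theorem tr : Kill.Tr (Base.T : Set Spor.Fi22) := ⟨kt.sq, kt.ne1, kt.conj, kt.three⟩

theorem sp6_na : ∃ a b : Sp6, a * b ≠ b * a := by
  by_contra hcon
  push Not at hcon
  have h1 : Subgroup.center Sp6 = ⊤ := by
    rw [eq_top_iff]
    intro x _
    exact mem_center_iff.2 fun y => hcon y x
  have h2 : Nat.card Sp6 = 1 := by
    rw [← Subgroup.card_top (G := Sp6), ← h1, center_sp6, Subgroup.card_bot]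
  rw [card_sp6] at h2
  omega

variable {F : Type*} [Field F] [Fintype F] {hF : Fintype.card F = 2 ^ 2}
variable {α : MulAut Spor.Fi22} {t : Spor.Fi22} {π : centralizer ({t} : Set Spor.Fi22) →* PSU 6 F 2}
  {lift : (Fin 6 → F) → centralizer ({t} : Set Spor.Fi22)} {φ : (Fin 6 → F) → (Fin 6 → F)}
  {g k : Fin 3 → (Fin 6 → F)}

theorem exists_ext (D : SDat hF α t π lift φ g k) :
    ∃ q : ↥(fix α ⊓ centralizer ({t} : Set Spor.Fi22)) →* Sp6, SType.Ext α t q := by
  obtain ⟨q, h1, h2⟩ := D.spSix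
  exact ⟨q, isSimpleGroup_sp6, sp6_na, h1, h2⟩

/-! ### An elementary abelian subgroup of `C(t) ∩ fix α` -/

/-- the vectors of a totally isotropic subspace over the field with two elements -/
def vec (g : Fin 3 → (Fin 6 → F)) (x : Fin 3 → Bool) : Fin 6 → F := ∑ i, (if x i then (1 : F) else 0) • g i

theorem herm_vec (hF : Fintype.card F = 2 ^ 2) (hb : Hyp g k) (x : Fin 3 → Bool) (i : Fin 3) :
    hermForm 6 F 2 (vec g x) (k i) = if x i then 1 else 0 := by
  rw [vec, Fin.sum_univ_three, herm_add_left, herm_add_left, herm_smul_left, herm_smul_left, herm_smul_left,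
    hb.gk, hb.gk, hb.gk]
  fin_cases i <;> simp

theorem herm_vec_vec (hF : Fintype.card F = 2 ^ 2) (hb : Hyp g k) (x y : Fin 3 → Bool) :
    hermForm 6 F 2 (vec g x) (vec g y) = 0 := by
  have h1 : ∀ i, hermForm 6 F 2 (vec g x) (g i) = 0 := by
    intro i
    rw [vec, Fin.sum_univ_three, herm_add_left, herm_add_left, herm_smul_left, herm_smul_left, herm_smul_left,
      hb.gg, hb.gg, hb.gg]
    ring
  rw [vec.eq_def g y, Fin.sum_univ_three, herm_add_right hF, herm_add_right hF, herm_smul_right, herm_smul_right,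
    herm_smul_right, h1, h1, h1]
  ring

theorem vec_ne (hF : Fintype.card F = 2 ^ 2) (hb : Hyp g k) {x : Fin 3 → Bool} (hx : x ≠ fun _ => false) :
    vec g x ≠ 0 := by
  intro h
  apply hx
  funext i
  have h1 := herm_vec hF hb x i
  rw [h, herm_zero_left] at h1
  by_contra h2
  rw [Bool.not_eq_false] at h2
  rw [h2, if_pos rfl] at h1
  exact zero_ne_one h1

theorem phi_vec (D : SDat hF α t π lift φ g k) (x : Fin 3 → Bool) : φ (vec g x) = vec g x := by
  rw [vec, Fin.sum_univ_three, D.sem.add, D.sem.add, D.sem.smul, D.sem.smul, D.sem.smul, D.fg, D.fg, D.fg]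
  have : ∀ b : Bool, (if b then (1 : F) else 0) ^ 2 = if b then 1 else 0 := by
    intro b
    cases b <;> simp
  rw [this, this, this]

/-- **An elementary abelian subgroup of order more than eight.** -/
theorem exists_E (D : SDat hF α t π lift φ g k) : ∃ E : Subgroup Spor.Fi22,
    E ≤ fix α ⊓ centralizer ({t} : Set Spor.Fi22) ∧ (∀ a ∈ E, a * a = 1) ∧ 8 < Nat.card ↥E := by
  classical
  have hiso : ∀ x : Fin 3 → Bool, (x ≠ fun _ => false) → Iso F (vec g x) := fun x hx =>
    ⟨vec_ne hF D.hyp hx, herm_vec_vec hF D.hyp x x⟩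
  have hA : ∀ x : Fin 3 → Bool, (x ≠ fun _ => false) → (lift (vec g x) : Spor.Fi22) ∈ A α t := fun x hx =>
    Semi.Dat.mem_A D.toDat (hiso x hx) (phi_vec D x)
  set Aset : Set Spor.Fi22 := {y | y = t ∨ ∃ x : Fin 3 → Bool, (x ≠ fun _ => false) ∧ y = lift (vec g x)} with hAset
  have hsq : ∀ y ∈ Aset, y * y = 1 := by
    rintro y (rfl | ⟨x, hx, rfl⟩)
    · exact kt.sq _ D.tT
    · exact kt.sq _ (hA x hx).1.1
  have hcomm : ∀ y ∈ Aset, ∀ z ∈ Aset, y * z = z * y := by
    rintro y (rfl | ⟨x, hx, rfl⟩) z (rfl | ⟨w, hw, rfl⟩)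
    · rfl
    · exact (hA w hw).2.2.symm
    · exact (hA x hx).2.2
    · have h1 := (D.lab.commute_iff (hiso x hx).2 (hiso w hw).2 (hiso x hx).1 (hiso w hw).1).2
        (herm_vec_vec hF D.hyp x w)
      exact congrArg Subtype.val h1.eq
  have key : ∀ x ∈ closure Aset, x * x = 1 := by
    have hcm : IsMulCommutative (closure Aset) :=
      Subgroup.isMulCommutative_closure fun x hx y hy => hcomm x hx y hy
    intro x hx
    induction hx using Subgroup.closure_induction with
    | mem x hx => exact hsq x hx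
    | one => exact mul_one 1
    | mul x y hx hy h1 h2 =>
      have h3 : (⟨x, hx⟩ : closure Aset) * ⟨y, hy⟩ = ⟨y, hy⟩ * ⟨x, hx⟩ := mul_comm' _ _
      have h4 : x * y = y * x := congrArg Subtype.val h3
      calc x * y * (x * y) = x * (y * x) * y := by group
        _ = x * (x * y) * y := by rw [h4]
        _ = (x * x) * (y * y) := by group
        _ = 1 := by rw [h1, h2, one_mul]
    | inv x _ h1 => rw [← mul_inv_rev, h1, inv_one]
  refine ⟨closure Aset, ?_, key, ?_⟩
  · rw [closure_le]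
    rintro y (rfl | ⟨x, hx, rfl⟩)
    · exact ⟨D.fixt, mem_centralizer_singleton_iff.2 rfl⟩
    · exact ⟨(hA x hx).1.2, (lift (vec g x)).2⟩
  · -- nine elements
    have hmem : ∀ x : Fin 3 → Bool, (if x = (fun _ => false) then (1 : Spor.Fi22) else lift (vec g x)) ∈
        closure Aset := by
      intro x
      split_ifs with h
      · exact one_mem _
      · exact subset_closure (Or.inr ⟨x, h, rfl⟩)
    have ht : t ∈ closure Aset := subset_closure (Or.inl rfl)
    let f : Option (Fin 3 → Bool) → ↥(closure Aset) := fun o =>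
      match o with
      | none => ⟨t, ht⟩
      | some x => ⟨_, hmem x⟩
    have ht1 : t ≠ 1 := kt.ne1 t D.tT
    have hlt : ∀ x : Fin 3 → Bool, (if x = (fun _ => false) then (1 : Spor.Fi22) else lift (vec g x)) ≠ t := by
      intro x
      split_ifs with h
      · exact Ne.symm ht1
      · exact (hA x h).2.1
    have hf : Function.Injective f := by
      rintro (_ | x) (_ | y) hxy
      · rfl
      · exact absurd (congrArg Subtype.val hxy).symm (hlt y)
      · exact absurd (congrArg Subtype.val hxy) (hlt x)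
      · have h1 : (if x = (fun _ => false) then (1 : Spor.Fi22) else lift (vec g x)) =
            (if y = (fun _ => false) then (1 : Spor.Fi22) else lift (vec g y)) := congrArg Subtype.val hxy
        congr 1
        by_cases hx : x = fun _ => false
        · by_cases hy : y = fun _ => false
          · rw [hx, hy]
          · exfalso
            rw [if_pos hx, if_neg hy] at h1
            exact kt.ne1 _ (hA y hy).1.1 h1.symm
        · by_cases hy : y = fun _ => false
          · exfalso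
            rw [if_neg hx, if_pos hy] at h1
            exact kt.ne1 _ (hA x hx).1.1 h1
          · rw [if_neg hx, if_neg hy] at h1
            obtain ⟨c, hc0, hc⟩ := (D.lab.lift_eq_iff (hiso x hx).2 (hiso y hy).2 (hiso x hx).1
              (hiso y hy).1).1 (Subtype.ext h1)
            have h2 : ∀ i, (if y i then (1 : F) else 0) = c * if x i then 1 else 0 := by
              intro i
              rw [← herm_vec hF D.hyp y i, ← herm_vec hF D.hyp x i, hc, herm_smul_left]
            funext i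
            have h3 := h2 i
            cases hxi : x i <;> cases hyi : y i <;> simp_all
    have h1 := Nat.card_le_card_of_injective f hf
    have h2 : Nat.card (Option (Fin 3 → Bool)) = 9 := by
      rw [Nat.card_eq_fintype_card]; rfl
    omega

/-! ### The dichotomy -/

/-- **The outer involutory automorphisms.** -/
theorem outer {α : MulAut Spor.Fi22} (hα : α * α = 1) (hni : ∀ y, α ≠ MulAut.conj y) {J : Subgroup Spor.Fi22}
    (hJ : CompIn (fix α) J) (h2 : 2 ∣ Nat.card ↥J) : qi J = 1451520 ∨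
    ∃ t ∈ TA α, ∃ q : ↥(fix α ⊓ centralizer ({t} : Set Spor.Fi22)) →* Sp6, SType.Ext α t q ∧ Bc α t q J ∧
      ∃ E : Subgroup Spor.Fi22, E ≤ fix α ⊓ centralizer ({t} : Set Spor.Fi22) ∧ (∀ a ∈ E, a * a = 1) ∧
        8 < Nat.card ↥E := by
  by_cases hA : All α
  · exact (false_of_all hα hA hJ).elim
  unfold All at hA
  push Not at hA
  obtain ⟨t, ht, hno⟩ := hA
  obtain ⟨π, lift, e, φ, he, D⟩ := exists_dat hα ht
  rcases he with rfl | rfl
  · obtain ⟨y, hy⟩ := D.inner
    exact absurd hy (hni y)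
  obtain ⟨g, k, hb, hg, hk1, hk2, hk0⟩ := semi_normal Fischer.Unit22.hF D.sem D.inv
  rcases hk0 with hk0 | hk0
  · have hk : ∀ i, φ (k i) = k i := by
      intro i
      fin_cases i
      exacts [hk0, hk1, hk2]
    have D' : SDat Fischer.Unit22.hF α t π lift φ g k := ⟨D, hb, hg, hk⟩
    obtain ⟨q, hq⟩ := exists_ext D'
    have hfin : Finite Spor.Fi22 := Base.fin
    rcases SType.cases tr ht.1 ht.2 hq hJ h2 with h | h
    · left; rw [h, card_sp6]
    · right
      exact ⟨t, ht, q, hq, h, exists_E D'⟩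
  · exact absurd (D.twin hb hg hk1 hk2 hk0) (hno _)

end Cfsg.Agent.OddHalf.NI3.Ex.FiRow.Outer

end
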